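import Mathlib

/-!
`q⁵ - q³ + q - 1` does not divide the order of `³D₄(q)`.
-/

set_option autoImplicit false

namespace Cfsg.Agent.Lib.D4Deg41

theorem not_dvd_order {q : ℕ} (h2 : 2 ≤ q) {d : ℕ} (hd : d = q ^ 4 + q ^ 3 + 1) :
    ¬ d ∣ q ^ 12 * (q ^ 2 - 1) * (q ^ 6 - 1) * (q ^ 8 + q ^ 4 + 1) := by
  intro h
  have hz : (d : ℤ) ∣ (q : ℤ) ^ 12 * ((q : ℤ) ^ 2 - 1) * ((q : ℤ) ^ 6 - 1) * ((q : ℤ) ^ 8 + q ^ 4 + 1) := by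
    have := Int.natCast_dvd_natCast.2 h
    push_cast [Nat.one_le_pow _ _ (show 0 < q by omega)] at this
    exact this
  set Q : ℤ := (q : ℤ)
  have hdz : (d : ℤ) = Q ^ 4 + Q ^ 3 + 1 := by rw [hd]; push_cast; rfl
  set D : ℤ := (d : ℤ)
  have e : Q ^ 12 * (Q ^ 2 - 1) * (Q ^ 6 - 1) * (Q ^ 8 + Q ^ 4 + 1) =
      ((Q - 1) * (Q - 1) * ((Q ^ 2 + Q + 1) * (Q ^ 2 + Q + 1))) *
        (Q ^ 12 * ((Q + 1) * (Q + 1) * ((Q ^ 2 - Q + 1) * (Q ^ 2 - Q + 1)) * (Q ^ 4 - Q ^ 2 + 1))) := by ring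
  rw [e] at hz
  have c0 : IsCoprime D Q := ⟨1, -(Q ^ 3 + Q ^ 2), by rw [hdz]; ring⟩
  have c2 : IsCoprime D (Q + 1) := ⟨1, -Q ^ 3, by rw [hdz]; ring⟩
  have c6 : IsCoprime D (Q ^ 2 - Q + 1) := by
    have c : IsCoprime Q (Q ^ 2 - Q + 1) := ⟨1 - Q, 1, by ring⟩
    have : IsCoprime (D + (-(Q ^ 2 + 2 * Q + 1)) * (Q ^ 2 - Q + 1)) (Q ^ 2 - Q + 1) := by
      rw [show D + (-(Q ^ 2 + 2 * Q + 1)) * (Q ^ 2 - Q + 1) = -Q by rw [hdz]; ring]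
      exact c.neg_left
    exact (IsCoprime.add_mul_left_left_iff (z := -(Q ^ 2 + 2 * Q + 1))).1 (by rw [mul_comm]; exact this)
  have c12 : IsCoprime D (Q ^ 4 - Q ^ 2 + 1) := by
    have c : IsCoprime (Q ^ 2 * (Q + 1)) (Q ^ 4 - Q ^ 2 + 1) :=
      (IsCoprime.pow_left ⟨Q - Q ^ 3, 1, by ring⟩).mul_left ⟨-(Q ^ 3 - Q ^ 2), 1, by ring⟩
    have h' : IsCoprime (D + -(Q ^ 4 - Q ^ 2 + 1)) (Q ^ 4 - Q ^ 2 + 1) := by
      rw [show D + -(Q ^ 4 - Q ^ 2 + 1) = Q ^ 2 * (Q + 1) by rw [hdz]; ring]; exact c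
    refine (IsCoprime.add_mul_left_left_iff (z := (-1 : ℤ))).1 ?_
    rw [mul_neg_one]; exact h'
  have hco : IsCoprime D (Q ^ 12 * ((Q + 1) * (Q + 1) * ((Q ^ 2 - Q + 1) * (Q ^ 2 - Q + 1)) * (Q ^ 4 - Q ^ 2 + 1))) :=
    c0.pow_right.mul_right (((c2.mul_right c2).mul_right (c6.mul_right c6)).mul_right c12)
  have hz' := hco.dvd_of_dvd_mul_right hz
  have g1 : (Int.gcd D (Q - 1) : ℤ) ∣ 3 := by
    have := dvd_sub (Int.gcd_dvd_left D (Q - 1)) ((Int.gcd_dvd_right D (Q - 1)).mul_left (Q ^ 3 + 2 * Q ^ 2 + 2 * Q + 2))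
    rwa [show D - (Q ^ 3 + 2 * Q ^ 2 + 2 * Q + 2) * (Q - 1) = 3 by rw [hdz]; ring] at this
  have g3 : (Int.gcd D (Q ^ 2 + Q + 1) : ℤ) ∣ 3 := by
    set g := (Int.gcd D (Q ^ 2 + Q + 1) : ℤ)
    have a : g ∣ D - (Q ^ 2 - 1) * (Q ^ 2 + Q + 1) :=
      dvd_sub (Int.gcd_dvd_left _ _) ((Int.gcd_dvd_right _ _).mul_left _)
    have b : g ∣ (Q ^ 2 + Q + 1) - (Q - 1) * (D - (Q ^ 2 - 1) * (Q ^ 2 + Q + 1)) :=
      dvd_sub (Int.gcd_dvd_right _ _) (a.mul_left _)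
    rwa [show (Q ^ 2 + Q + 1) - (Q - 1) * (D - (Q ^ 2 - 1) * (Q ^ 2 + Q + 1)) = 3 by rw [hdz]; ring] at b
  set A := (Q - 1).natAbs with hA
  set B := (Q ^ 2 + Q + 1).natAbs with hB
  have hn : d ∣ A * A * (B * B) := by
    have := Int.natAbs_dvd_natAbs.2 hz'
    simpa [D, Int.natAbs_mul] using this
  have hA3 : d.gcd A ∣ 3 := by exact_mod_cast g1
  have hB3 : d.gcd B ∣ 3 := by exact_mod_cast g3
  have hd81 : d ∣ 81 := by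
    have h1 : d ∣ d.gcd (A * A) * d.gcd (B * B) :=
      (Nat.dvd_gcd dvd_rfl hn).trans (Nat.gcd_mul_right_dvd_mul_gcd d (A * A) (B * B))
    exact h1.trans (Nat.mul_dvd_mul ((Nat.gcd_mul_right_dvd_mul_gcd d A A).trans (Nat.mul_dvd_mul hA3 hA3))
      ((Nat.gcd_mul_right_dvd_mul_gcd d B B).trans (Nat.mul_dvd_mul hB3 hB3)))
  have hle := Nat.le_of_dvd (by norm_num) hd81
  have hq : q < 3 := by
    by_contra hcon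
    push Not at hcon
    have : 3 ^ 4 ≤ q ^ 4 := Nat.pow_le_pow_left hcon 4
    omega
  obtain rfl : q = 2 := by omega
  norm_num [hd] at hd81

end Cfsg.Agent.Lib.D4Deg41
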