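import Cfsg.Agent.Lib.D4Deg41.FieldData

/-!
Additive characters of the fixed field, of `K`, and of their product.
-/

set_option autoImplicit false

namespace Cfsg.Agent.Lib.D4Deg41

variable {K : Type*} [Field K] [Fintype K] {q : ℕ} {φ : K ≃+* K}

noncomputable instance fixF.fintype : Fintype (fixF φ) := Fintype.ofFinite _

/-- The parameters `(f, v, e)` of the abelian subgroup, and of its characters. -/
abbrev Par (φ : K ≃+* K) : Type _ := fixF φ × K × fixF φ

variable (H : Hyp K q φ)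
include H

theorem Hyp.exists_psi : ∃ ψ : AddChar (fixF φ) ℂ, ψ 1 ≠ 1 :=
  AddChar.exists_apply_ne_zero.2 one_ne_zero

/-- A fixed character of the fixed field. -/
noncomputable def Hyp.psi : AddChar (fixF φ) ℂ := H.exists_psi.choose

theorem Hyp.psi_ne : H.psi 1 ≠ 1 := H.exists_psi.choose_spec

theorem Hyp.psi_inj {a b : fixF φ} (h : ∀ v, H.psi (a * v) = H.psi (b * v)) : a = b := by
  by_contra hab
  refine H.psi_ne ?_
  rw [← mul_inv_cancel₀ (sub_ne_zero.2 hab), sub_mul, sub_eq_add_neg, ← mul_neg, AddChar.map_add_eq_mul, h,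
    ← AddChar.map_add_eq_mul, ← mul_add, add_neg_cancel, mul_zero, AddChar.map_zero_eq_one]

theorem Hyp.psiT_inj {a b : K} (h : ∀ v, H.psi (H.T (a * v)) = H.psi (H.T (b * v))) : a = b := by
  by_contra hab
  refine H.psi_ne ?_
  obtain ⟨x, hx⟩ := H.T_surjective 1
  rw [← hx, ← mul_inv_cancel_left₀ (sub_ne_zero.2 hab) x, sub_mul, map_sub, sub_eq_add_neg, AddChar.map_add_eq_mul,
    h, ← AddChar.map_add_eq_mul, add_neg_cancel, AddChar.map_zero_eq_one]

/-- The character of a parameter. -/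
noncomputable def Hyp.chr (m : Par φ) : AddChar (Par φ) ℂ where
  toFun p := H.psi (m.1 * p.1 + H.T (m.2.1 * p.2.1) + m.2.2 * p.2.2)
  map_zero_eq_one' := by simp
  map_add_eq_mul' p p' := by
    rw [← AddChar.map_add_eq_mul]
    congr 1
    simp only [Prod.fst_add, Prod.snd_add, mul_add, map_add]
    ring

theorem Hyp.chr_apply (m p : Par φ) :
    H.chr m p = H.psi (m.1 * p.1 + H.T (m.2.1 * p.2.1) + m.2.2 * p.2.2) := rfl

theorem Hyp.chr_injective : Function.Injective H.chr := fun m m' e => by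
  have h := DFunLike.congr_fun e
  refine Prod.ext (H.psi_inj fun v => ?_) (Prod.ext (H.psiT_inj fun v => ?_) (H.psi_inj fun v => ?_))
  · simpa [H.chr_apply] using h (v, 0, 0)
  · simpa [H.chr_apply] using h (0, v, 0)
  · simpa [H.chr_apply] using h (0, 0, v)

theorem Hyp.chr_bijective : Function.Bijective H.chr :=
  (Fintype.bijective_iff_injective_and_card _).2 ⟨H.chr_injective, by rw [AddChar.card_eq]⟩

theorem Hyp.exists_chr (χ : AddChar (Par φ) ℂ) : ∃ m, χ = H.chr m :=
  ⟨_, (H.chr_bijective.2 χ).choose_spec.symm⟩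

theorem Hyp.exists_psi_mul (χ : AddChar (fixF φ) ℂ) : ∃ a : fixF φ, ∀ s, χ s = H.psi (a * s) := by
  have hinj : Function.Injective (fun a : fixF φ => H.psi.compAddMonoidHom (AddMonoidHom.mulLeft a)) :=
    fun a b e => H.psi_inj fun v => DFunLike.congr_fun e v
  obtain ⟨a, ha⟩ := ((Fintype.bijective_iff_injective_and_card _).2 ⟨hinj, by rw [AddChar.card_eq]⟩).2 χ
  exact ⟨a, fun s => (DFunLike.congr_fun ha s).symm⟩

theorem Hyp.exists_psiT_mul (χ : AddChar K ℂ) : ∃ g : K, ∀ v, χ v = H.psi (H.T (g * v)) := by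
  have hinj : Function.Injective (fun g : K => H.psi.compAddMonoidHom (H.T.comp (AddMonoidHom.mulLeft g))) :=
    fun a b e => H.psiT_inj fun v => DFunLike.congr_fun e v
  obtain ⟨a, ha⟩ := ((Fintype.bijective_iff_injective_and_card _).2 ⟨hinj, by rw [AddChar.card_eq]⟩).2 χ
  exact ⟨a, fun s => (DFunLike.congr_fun ha s).symm⟩

end Cfsg.Agent.Lib.D4Deg41
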