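import Cfsg.Agent.Lib.ReeDeg41.Split

/-!
Fixed spaces and orbit bounds for the splitting along characters.
-/

set_option autoImplicit false

namespace Cfsg.Agent.Lib.D4Deg41

open Module Cfsg.Agent.Lib.ReeDeg41

variable {A G V : Type*} [AddCommGroup A] [Fintype A] [Group G] [AddCommGroup V] [Module ℂ V]
  [FiniteDimensional ℂ V] (π : G →* Module.End ℂ V) {a : A → G}

theorem proj_eq_zero {χ : AddChar A ℂ} (h : dimChar π a χ = 0) : proj π a χ = 0 := by
  rw [← LinearMap.range_eq_bot]; exact Submodule.finrank_eq_zero.1 h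

/-- The fixed space of a set of parameters collects the characters trivial on the set. -/
theorem finrank_fixed (ha : ∀ p q, a (p + q) = a p * a q) (Z : Set A) (W : Submodule ℂ V)
    (hW : ∀ v, v ∈ W ↔ ∀ z ∈ Z, π (a z) v = v) (S : Finset (AddChar A ℂ))
    (hS : ∀ χ, χ ∈ S ↔ ∃ z ∈ Z, χ z ≠ 1) :
    ∑ χ ∈ Sᶜ, dimChar π a χ = finrank ℂ W := by
  classical
  set E : Module.End ℂ V := ∑ χ ∈ Sᶜ, proj π a χ with hE
  have hproj : LinearMap.IsProj W E := by
    refine ⟨fun v => ?_, fun v hv => ?_⟩
    · rw [hW]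
      intro z hz
      have : π (a z) * E = E := by
        rw [hE, Finset.mul_sum]
        refine Finset.sum_congr rfl fun χ hχ => ?_
        rw [act_proj π ha, show χ z = 1 from by_contra fun h => Finset.mem_compl.1 hχ ((hS χ).2 ⟨z, hz, h⟩),
          one_smul]
      exact LinearMap.congr_fun this v
    · have h0 := LinearMap.congr_fun (sum_proj π ha) v
      rw [← Finset.sum_add_sum_compl S, LinearMap.add_apply, Module.End.one_apply, ← hE] at h0
      suffices h : (∑ χ ∈ S, proj π a χ) v = 0 by rwa [h, zero_add] at h0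
      rw [LinearMap.sum_apply]
      refine Finset.sum_eq_zero fun χ hχ => ?_
      obtain ⟨z, hz, hne⟩ := (hS χ).1 hχ
      have h1 : proj π a χ * π (a z) = χ z • proj π a χ := by
        rw [← act_proj π ha, proj.eq_1, smul_mul_assoc, mul_smul_comm, Finset.sum_mul, Finset.mul_sum]
        congr 1
        refine Finset.sum_congr rfl fun p _ => ?_
        rw [smul_mul_assoc, mul_smul_comm, ← map_mul, ← map_mul, ← ha, ← ha, add_comm]
      have h2 := LinearMap.congr_fun h1 v
      rw [Module.End.mul_apply, (hW v).1 hv z hz, LinearMap.smul_apply] at h2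
      have h3 : (χ z - 1) • proj π a χ v = 0 := by rw [sub_smul, one_smul, ← h2, sub_self]
      exact (smul_eq_zero.1 h3).resolve_left (sub_ne_zero.2 hne)
  have ht := hproj.trace
  rw [hE, map_sum] at ht
  simp only [trace_proj π ha] at ht
  exact_mod_cast ht

/-- If some parameter acts nontrivially, a nontrivial character occurs. -/
theorem exists_char_ne (ha : ∀ p q, a (p + q) = a p * a q) {z : A} (hz : π (a z) ≠ 1) :
    ∃ χ : AddChar A ℂ, χ z ≠ 1 ∧ dimChar π a χ ≠ 0 := by
  by_contra hcon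
  push Not at hcon
  refine hz ?_
  rw [← mul_one (π (a z)), ← sum_proj π ha, Finset.mul_sum]
  refine Finset.sum_congr rfl fun χ _ => ?_
  rw [act_proj π ha]
  by_cases h : χ z = 1
  · rw [h, one_smul]
  · rw [proj_eq_zero π (hcon χ h), smul_zero]

/-- An orbit of one occurring character bounds the dimension. -/
theorem orbit_le (ha : ∀ p q, a (p + q) = a p * a q) {ι : Type*} [Fintype ι] (g : ι → G) (φ : ι → A ≃+ A)
    (hg : ∀ i p, g i * a p = a (φ i p) * g i) {χ : AddChar A ℂ} (hχ : dimChar π a χ ≠ 0)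
    [DecidableEq (AddChar A ℂ)] :
    (Finset.univ.image fun i => χ.compAddMonoidHom (φ i).toAddMonoidHom).card ≤ finrank ℂ V := by
  classical
  rw [← sum_dimChar π ha, Finset.card_eq_sum_ones]
  refine le_trans (Finset.sum_le_sum fun x hx => ?_) (Finset.sum_le_univ_sum_of_nonneg fun _ => Nat.zero_le _)
  obtain ⟨i, -, rfl⟩ := Finset.mem_image.1 hx
  rw [dimChar_conj π ha (φ i) (hg i)]
  omega

omit [FiniteDimensional ℂ V] in
/-- An element fixing a character of multiplicity one acts on its line by a scalar. -/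
theorem eigen_line {χ : AddChar A ℂ} (h1 : dimChar π a χ = 1) {v : V}
    (hv0 : v ≠ 0) (hv : v ∈ LinearMap.range (proj π a χ)) {g : G} (φ : A ≃+ A)
    (hg : ∀ p, g * a p = a (φ p) * g) (hfix : χ.compAddMonoidHom φ.toAddMonoidHom = χ) :
    ∃ c : ℂ, π g v = c • v := by
  obtain ⟨w, rfl⟩ := hv
  have h := proj_conj π φ hg χ
  rw [hfix] at h
  have hmem : π g (proj π a χ w) ∈ LinearMap.range (proj π a χ) :=
    ⟨π g w, (LinearMap.congr_fun h w).symm⟩
  obtain ⟨c, hc⟩ := (finrank_eq_one_iff_of_nonzero' (⟨_, LinearMap.mem_range_self (proj π a χ) w⟩ :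
    LinearMap.range (proj π a χ)) (fun e => hv0 (congrArg Subtype.val e))).1 h1 ⟨_, hmem⟩
  exact ⟨c, (congrArg Subtype.val hc).symm⟩

end Cfsg.Agent.Lib.D4Deg41
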