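import Cfsg.Agent.Lib.D4Deg41.TorusAct
import Cfsg.Agent.Lib.D4Deg41.Chars
import Cfsg.Agent.Lib.D4Deg41.Fixed

/-!
The characters of the abelian subgroup on `3a + 2b`, `2a + b`, `3a + b` occurring in a representation.
-/

set_option autoImplicit false

namespace Cfsg.Agent.Lib.D4Deg41

open Cfsg.Lie Module Cfsg.Agent.Lib.ReeDeg41

variable {K : Type*} [Field K] [Fintype K] {q : ℕ} {φ : K ≃+* K} (H : Hyp K q φ)
include H

/-- The embedding of the parameters. -/
noncomputable def aA (p : Par φ) : ↥(twistedD4 K q) := xf H p.1 * xd H p.2.1 * xe H p.2.2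

theorem aA_add (p p' : Par φ) : aA H (p + p') = aA H p * aA H p' := by
  simp only [aA, Prod.fst_add, Prod.snd_add, xf_add, xd_add, xe_add]
  have h1 : Commute (xf H p'.1) (xd H p.2.1 * xe H p.2.2) := ((d_f H _ _).symm).mul_right (e_f H _ _).symm
  have h2 : Commute (xd H p'.2.1) (xe H p.2.2) := d_e H _ _
  calc xf H p.1 * xf H p'.1 * (xd H p.2.1 * xd H p'.2.1) * (xe H p.2.2 * xe H p'.2.2)
      = xf H p.1 * (xf H p'.1 * (xd H p.2.1 * (xd H p'.2.1 * xe H p.2.2))) * xe H p'.2.2 := by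
        simp only [mul_assoc]
    _ = xf H p.1 * (xf H p'.1 * (xd H p.2.1 * xe H p.2.2)) * xd H p'.2.1 * xe H p'.2.2 := by
        rw [h2.eq]; simp only [mul_assoc]
    _ = _ := by rw [h1.eq]; simp only [mul_assoc]

theorem xb_zero : xb H 0 = 1 := left_eq_mul.1 (show xb H 0 = xb H 0 * xb H 0 by rw [← xb_add, add_zero])
theorem xe_zero : xe H 0 = 1 := left_eq_mul.1 (show xe H 0 = xe H 0 * xe H 0 by rw [← xe_add, add_zero])
theorem xf_zero : xf H 0 = 1 := left_eq_mul.1 (show xf H 0 = xf H 0 * xf H 0 by rw [← xf_add, add_zero])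
theorem xd_zero : xd H 0 = 1 := left_eq_mul.1 (show xd H 0 = xd H 0 * xd H 0 by rw [← xd_add, add_zero])

theorem aA_f (u : fixF φ) : aA H (u, 0, 0) = xf H u := by simp [aA, xd_zero, xe_zero]
theorem aA_d (v : K) : aA H (0, v, 0) = xd H v := by simp [aA, xf_zero, xe_zero]
theorem aA_e (u : fixF φ) : aA H (0, 0, u) = xe H u := by simp [aA, xf_zero, xd_zero]

omit H in
/-- The shear adding an additive function of the middle coordinate to the first. -/
def shF (l : K →+ fixF φ) (s : fixF φ) : Par φ ≃+ Par φ where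
  toFun p := (p.1 + l p.2.1 + s * p.2.2, p.2.1, p.2.2)
  invFun p := (p.1 - l p.2.1 - s * p.2.2, p.2.1, p.2.2)
  left_inv p := Prod.ext (by dsimp; ring) rfl
  right_inv p := Prod.ext (by dsimp; ring) rfl
  map_add' p p' := by
    refine Prod.ext ?_ rfl
    simp only [Prod.fst_add, Prod.snd_add, map_add]
    ring

omit H in
/-- The shear adding to the last coordinate. -/
def shE (l : K →+ fixF φ) (s : fixF φ) : Par φ ≃+ Par φ where
  toFun p := (p.1, p.2.1, p.2.2 + l p.2.1 + s * p.1)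
  invFun p := (p.1, p.2.1, p.2.2 - l p.2.1 - s * p.1)
  left_inv p := Prod.ext rfl (Prod.ext rfl (by dsimp; ring))
  right_inv p := Prod.ext rfl (Prod.ext rfl (by dsimp; ring))
  map_add' p p' := by
    refine Prod.ext rfl (Prod.ext rfl ?_)
    simp only [Prod.fst_add, Prod.snd_add, map_add]
    ring

omit H in
/-- The diagonal map of a torus element. -/
def dia (c : (fixF φ)ˣ) (d : Kˣ) : Par φ ≃+ Par φ where
  toFun p := (p.1, (d : K) * p.2.1, (c : fixF φ) * p.2.2)
  invFun p := (p.1, (↑d⁻¹ : K) * p.2.1, (↑c⁻¹ : fixF φ) * p.2.2)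
  left_inv p := by simp
  right_inv p := by simp
  map_add' p p' := by simp [mul_add]

/-- `r ↦ T (φ r · v)` in `v`. -/
noncomputable def lT (r : K) : K →+ fixF φ := H.T.comp (AddMonoidHom.mulLeft r)

theorem lT_apply (r v : K) : lT H r v = H.T (r * v) := rfl

theorem b_aA (s : fixF φ) (p : Par φ) : xb H s * aA H p = aA H (shF 0 s p) * xb H s := by
  obtain ⟨f, v, e⟩ := p
  show xb H s * (xf H f * xd H v * xe H e) = xf H (f + 0 + s * e) * xd H v * xe H e * xb H s
  rw [add_zero, xf_add]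
  calc xb H s * (xf H f * xd H v * xe H e) = (xb H s * (xf H f * xd H v)) * xe H e := by simp only [mul_assoc]
    _ = xf H f * xd H v * (xb H s * xe H e) := by
        rw [((b_f H s f).mul_right (b_d H s v)).eq]; simp only [mul_assoc]
    _ = xf H f * (xd H v * (xe H e * xf H (s * e))) * xb H s := by
        rw [b_e, (b_f H s (s * e)).eq]; simp only [mul_assoc]
    _ = _ := by
        rw [(e_f H e (s * e)).eq, ← mul_assoc (xd H v), (d_f H v (s * e)).eq]
        simp only [mul_assoc]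

theorem nb_aA (s : fixF φ) (p : Par φ) : xnb H s * aA H p = aA H (shE 0 s p) * xnb H s := by
  obtain ⟨f, v, e⟩ := p
  show xnb H s * (xf H f * xd H v * xe H e) = xf H f * xd H v * xe H (e + 0 + s * f) * xnb H s
  rw [add_zero, xe_add]
  calc xnb H s * (xf H f * xd H v * xe H e) = (xnb H s * xf H f) * (xd H v * xe H e) := by simp only [mul_assoc]
    _ = xf H f * (xnb H s * (xe H (s * f) * xd H v * xe H e)) := by rw [nb_f]; simp only [mul_assoc]
    _ = xf H f * ((xe H (s * f) * xd H v * xe H e) * xnb H s) := by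
        rw [(((nb_e H s (s * f)).mul_right (nb_d H s v)).mul_right (nb_e H s e)).eq]
    _ = _ := by
        rw [← (d_e H v (s * f)).eq, mul_assoc (xd H v), ← xe_add, add_comm (s * f), xe_add]
        simp only [mul_assoc]

theorem c_aA (r : K) (p : Par φ) : xc H r * aA H p = aA H (shF (lT H (φ r)) 0 p) * xc H r := by
  obtain ⟨f, v, e⟩ := p
  show xc H r * (xf H f * xd H v * xe H e) = xf H (f + H.T (φ r * v) + 0 * e) * xd H v * xe H e * xc H r
  rw [zero_mul, add_zero, xf_add]
  calc xc H r * (xf H f * xd H v * xe H e) = (xc H r * xf H f) * xd H v * xe H e := by simp only [mul_assoc]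
    _ = xf H f * (xc H r * xd H v) * xe H e := by rw [(c_f H r f).eq]; simp only [mul_assoc]
    _ = xf H f * (xd H v * xf H (H.T (φ r * v))) * (xc H r * xe H e) := by
        rw [c_d, (c_f H r _).eq]; simp only [mul_assoc]
    _ = _ := by rw [(c_e H r e).eq, (d_f H v _).eq]; simp only [mul_assoc]

theorem a_aA (t : K) (p : Par φ) : xa H t * aA H p = aA H (shE (lT H (φ t)) 0 p) * xa H t := by
  obtain ⟨f, v, e⟩ := p
  show xa H t * (xf H f * xd H v * xe H e) = xf H f * xd H v * xe H (e + H.T (φ t * v) + 0 * f) * xa H t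
  rw [zero_mul, add_zero, xe_add]
  have key : xa H t * xd H v = xd H v * xe H (H.T (φ t * v)) * xa H t := by
    rw [mul_comm (φ t) v]
    calc xa H t * xd H v = xa H t * (xd H v * xe H (-H.T (v * φ t))) * xe H (H.T (v * φ t)) := by
          rw [← mul_assoc, mul_assoc _ (xe H _), ← xe_add, neg_add_cancel, xe_zero, mul_one]
      _ = xd H v * (xa H t * xe H (H.T (v * φ t))) := by rw [← d_a, mul_assoc]
      _ = _ := by rw [(a_e H t _).eq, mul_assoc]
  calc xa H t * (xf H f * xd H v * xe H e) = (xa H t * xf H f) * xd H v * xe H e := by simp only [mul_assoc]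
    _ = xf H f * (xa H t * xd H v) * xe H e := by rw [(a_f H t f).eq]; simp only [mul_assoc]
    _ = xf H f * (xd H v * xe H (H.T (φ t * v))) * (xa H t * xe H e) := by rw [key]; simp only [mul_assoc]
    _ = xf H f * (xd H v * xe H (H.T (φ t * v))) * (xe H e * xa H t) := by rw [(a_e H t e).eq]
    _ = _ := by
        simp only [mul_assoc]
        rw [← mul_assoc (xe H (H.T (φ t * v))) (xe H e), ← xe_add, add_comm, xe_add, mul_assoc]

theorem ht_aA (t : Kˣ) (p : Par φ) :
    ht H t * aA H p = aA H (dia (H.nrm t) (Units.mk0 _ (H.kd_ne t)) p) * ht H t := by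
  obtain ⟨f, v, e⟩ := p
  show ht H t * (xf H f * xd H v * xe H e) = xf H f * xd H (kd φ t * v) * xe H (↑(H.nrm t) * e) * ht H t
  rw [← mul_assoc, ← mul_assoc, ht_f, mul_assoc _ (ht H t), ht_d, ← mul_assoc, mul_assoc _ (ht H t), ht_e,
    ← mul_assoc]

theorem chr_shF (m : Par φ) (r : K) (s : fixF φ) :
    (H.chr m).compAddMonoidHom (shF (lT H r) s).toAddMonoidHom = H.chr (m.1, m.2.1 + m.1 * r, m.2.2 + m.1 * s) := by
  refine DFunLike.ext _ _ fun p => ?_
  show H.chr m (p.1 + H.T (r * p.2.1) + s * p.2.2, p.2.1, p.2.2) = _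
  simp only [H.chr_apply, add_mul, mul_add, map_add, mul_assoc, H.T_smul]
  congr 1
  ring

theorem chr_shE (m : Par φ) (t : K) (s : fixF φ) :
    (H.chr m).compAddMonoidHom (shE (lT H t) s).toAddMonoidHom =
      H.chr (m.1 + m.2.2 * s, m.2.1 + m.2.2 * t, m.2.2) := by
  refine DFunLike.ext _ _ fun p => ?_
  show H.chr m (p.1, p.2.1, p.2.2 + H.T (t * p.2.1) + s * p.1) = _
  simp only [H.chr_apply, add_mul, mul_add, map_add, mul_assoc, H.T_smul]
  congr 1
  ring

theorem chr_dia (m : Par φ) (c : (fixF φ)ˣ) (d : Kˣ) :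
    (H.chr m).compAddMonoidHom (dia c d).toAddMonoidHom = H.chr (m.1, m.2.1 * d, m.2.2 * c) := by
  refine DFunLike.ext _ _ fun p => ?_
  show H.chr m (p.1, (d : K) * p.2.1, (c : fixF φ) * p.2.2) = _
  simp only [H.chr_apply, mul_assoc]

variable {V : Type*} [AddCommGroup V] [Module ℂ V] [FiniteDimensional ℂ V]
  (π : ↥(twistedD4 K q) →* Module.End ℂ V)

/-- The dimension of a parameter. -/
noncomputable def mult (m : Par φ) : ℕ := dimChar π (aA H) (H.chr m)

theorem lT_zero : lT H 0 = 0 := by ext v; simp [lT_apply]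

theorem mult_b (m : Par φ) (s : fixF φ) : mult H π (m.1, m.2.1, m.2.2 + m.1 * s) = mult H π m := by
  have h := dimChar_conj π (aA_add H) (shF 0 s) (b_aA H s) (H.chr m)
  rw [← lT_zero H, chr_shF] at h
  simpa [mult] using h

theorem mult_nb (m : Par φ) (s : fixF φ) : mult H π (m.1 + m.2.2 * s, m.2.1, m.2.2) = mult H π m := by
  have h := dimChar_conj π (aA_add H) (shE 0 s) (nb_aA H s) (H.chr m)
  rw [← lT_zero H, chr_shE] at h
  simpa [mult] using h

theorem mult_c (m : Par φ) (r : K) : mult H π (m.1, m.2.1 + m.1 * r, m.2.2) = mult H π m := by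
  have h := dimChar_conj π (aA_add H) _ (c_aA H (φ.symm r)) (H.chr m)
  rw [φ.apply_symm_apply, chr_shF] at h
  simpa [mult] using h

theorem mult_a (m : Par φ) (t : K) : mult H π (m.1, m.2.1 + m.2.2 * t, m.2.2) = mult H π m := by
  have h := dimChar_conj π (aA_add H) _ (a_aA H (φ.symm t)) (H.chr m)
  rw [φ.apply_symm_apply, chr_shE] at h
  simpa [mult] using h

/-- All parameters nontrivial on the long root subgroups have one multiplicity. -/
theorem mult_const (m : Par φ) (hm : m.1 ≠ 0 ∨ m.2.2 ≠ 0) : mult H π m = mult H π (0, 0, 1) := by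
  have key : ∀ μ γ δ, μ ≠ 0 → mult H π (μ, γ, δ) = mult H π (0, 0, 1) := fun μ γ δ hμ => by
    have hμK : (μ : K) ≠ 0 := fun e => hμ (Subtype.ext e)
    have h1 := mult_c H π (μ, γ, δ) (-γ / μ)
    have h2 := mult_b H π (μ, γ + μ * (-γ / μ), δ) ((1 - δ) / μ)
    have h3 := mult_nb H π (μ, γ + μ * (-γ / μ), δ + μ * ((1 - δ) / μ)) (-μ)
    rw [← h1, ← h2, ← h3]
    rw [mul_div_cancel₀ _ hμK, mul_div_cancel₀ _ hμ]
    simp
  obtain ⟨μ, γ, δ⟩ := m
  by_cases hμ : μ = 0
  · subst hμ
    rw [← mult_nb H π (0, γ, δ) 1]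
    refine key _ _ _ ?_
    simpa using hm.resolve_left (by simp)
  · exact key μ γ δ hμ

omit H in
variable (φ) in
/-- The parameters nontrivial on the long root subgroups. -/
noncomputable def bigSet : Finset (Par φ) := open Classical in
  Finset.univ.filter fun m => m.1 ≠ 0 ∨ m.2.2 ≠ 0

theorem card_bigSet : (bigSet φ).card + q ^ 3 = q * (q ^ 3 * q) := by
  classical
  have e : (bigSet φ)ᶜ = ({0} : Finset (fixF φ)) ×ˢ (Finset.univ : Finset K) ×ˢ ({0} : Finset (fixF φ)) := by
    ext m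
    simp [bigSet]
    exact ⟨fun h => ⟨m.2.1, Prod.ext h.1.symm (Prod.ext rfl h.2.symm)⟩, by rintro ⟨a, rfl⟩; exact ⟨rfl, rfl⟩⟩
  have h := Finset.card_add_card_compl (bigSet φ)
  rw [e] at h
  simp only [Finset.card_product, Finset.card_singleton, Finset.card_univ, H.hK, one_mul, mul_one,
    Fintype.card_prod] at h
  rw [h, Fintype.card_eq_nat_card, H.card_k]

/-- The fixed space of the two long root subgroups. -/
def fixW : Submodule ℂ V where
  carrier := {v | ∀ u, π (xe H u) v = v ∧ π (xf H u) v = v}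
  add_mem' h1 h2 u := by simp [(h1 u).1, (h1 u).2, (h2 u).1, (h2 u).2]
  zero_mem' u := by simp
  smul_mem' c v h u := by simp [(h u).1, (h u).2]

omit [FiniteDimensional ℂ V] in
theorem mem_fixW {v : V} : v ∈ fixW H π ↔ ∀ u, π (xe H u) v = v ∧ π (xf H u) v = v := Iff.rfl

theorem finrank_eq :
    finrank ℂ V = (bigSet φ).card * mult H π (0, 0, 1) + finrank ℂ (fixW H π) := by
  classical
  let E : Par φ ≃ AddChar (Par φ) ℂ := Equiv.ofBijective H.chr H.chr_bijective
  have hz : ∀ χ, χ ∈ (bigSet φ).map E.toEmbedding ↔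
      ∃ z ∈ {z : Par φ | z.2.1 = 0}, χ z ≠ 1 := by
    intro χ
    obtain ⟨m, rfl⟩ := H.exists_chr χ
    rw [show H.chr m = E m from rfl, Finset.mem_map_equiv, Equiv.symm_apply_apply]
    simp only [bigSet, Finset.mem_filter, Finset.mem_univ, true_and, Set.mem_ofPred_eq]
    constructor
    · rintro (h | h)
      · exact ⟨(m.1⁻¹, 0, 0), rfl, by simpa [E, H.chr_apply, mul_inv_cancel₀ h] using H.psi_ne⟩
      · exact ⟨(0, 0, m.2.2⁻¹), rfl, by simpa [E, H.chr_apply, mul_inv_cancel₀ h] using H.psi_ne⟩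
    · rintro ⟨⟨f, v, e⟩, hv, h⟩
      by_contra hcon
      push Not at hcon
      refine h ?_
      simp only at hv
      simp [E, H.chr_apply, hv, hcon.1, hcon.2]
  have hW : ∀ v, v ∈ fixW H π ↔ ∀ z ∈ {z : Par φ | z.2.1 = 0}, π (aA H z) v = v := by
    intro v
    refine ⟨fun h z hz => ?_, fun h u => ⟨?_, ?_⟩⟩
    · obtain ⟨f, w, e⟩ := z
      simp only [Set.mem_ofPred_eq] at hz
      subst hz
      simp [aA, xd_zero, map_mul, ((mem_fixW H π).1 h e).1, ((mem_fixW H π).1 h f).2]
    · simpa [aA_e] using h (0, 0, u) rfl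
    · simpa [aA_f] using h (u, 0, 0) rfl
  rw [← sum_dimChar π (aA_add H), ← Finset.sum_add_sum_compl ((bigSet φ).map E.toEmbedding),
    finrank_fixed π (aA_add H) _ _ hW _ hz, Finset.sum_map]
  congr 1
  exact (Finset.sum_eq_card_nsmul fun m hm => mult_const H π m (Finset.mem_filter.1 hm).2).trans (smul_eq_mul _ _)

end Cfsg.Agent.Lib.D4Deg41
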