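import Cfsg.Agent.Lib.Twisted.Core.D4Group

/-!
The cubic extension `K / k` given by the `q`-power automorphism: trace, norm and additive characters.
-/

set_option autoImplicit false

namespace Cfsg.Agent.Lib.D4Deg41

/-- The data of `S2342`. -/
structure Hyp (K : Type*) [Field K] [Fintype K] (q : ℕ) (φ : K ≃+* K) : Prop where
  hq : IsPrimePow q
  hK : Fintype.card K = q ^ 3
  hφ : ∀ t, φ t = t ^ q

variable {K : Type*} [Field K] {q : ℕ} {φ : K ≃+* K}

variable (φ) in
/-- The fixed field. -/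
abbrev fixF : Subfield K := RingHom.eqLocusField φ.toRingHom (RingHom.id K)

theorem mem_fixF {x : K} : x ∈ fixF φ ↔ φ x = x := Iff.rfl

theorem fixF_coe (s : fixF φ) : φ (s : K) = s := s.2

variable (φ) in
/-- The multiplier of the roots `2a + b`. -/
def kd (t : Kˣ) : K := (t : K) * φ (φ t) / φ t

variable (φ) in
/-- The multiplier of the roots `a + b`. -/
def kc (t : Kˣ) : K := (t : K) / (φ t * φ (φ t))

theorem ne0 (t : Kˣ) : φ (t : K) ≠ 0 ∧ φ (φ (t : K)) ≠ 0 := by simp

variable [Fintype K] (H : Hyp K q φ)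
include H

theorem Hyp.two_le : 2 ≤ q := H.hq.two_le

theorem Hyp.phi3 (t : K) : φ (φ (φ t)) = t := by
  rw [H.hφ, H.hφ, H.hφ, ← pow_mul, ← pow_mul, show q * (q * q) = q ^ 3 by ring, ← H.hK, FiniteField.pow_card]

theorem Hyp.card_k : Nat.card (fixF φ) = q := Twisted.Core.d4_fix_card H.hq H.hK H.hφ

/-- The trace as an additive map. -/
def Hyp.T : K →+ fixF φ where
  toFun x := ⟨x + φ x + φ (φ x), by rw [mem_fixF, map_add, map_add, H.phi3]; ring⟩
  map_zero' := Subtype.ext (by simp)
  map_add' x y := Subtype.ext (by push_cast; simp only [map_add]; ring)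

theorem Hyp.coe_T (x : K) : (H.T x : K) = x + φ x + φ (φ x) := rfl

theorem Hyp.T_smul (s : fixF φ) (x : K) : H.T ((s : K) * x) = s * H.T x :=
  Subtype.ext (by push_cast; simp only [H.coe_T, map_mul, fixF_coe]; ring)

theorem Hyp.T_ne_zero : ∃ x, H.T x ≠ 0 := by
  classical
  by_contra hcon
  push Not at hcon
  have h2 := H.two_le
  open Polynomial in
  let p : K[X] := X ^ (q ^ 2) + X ^ q + X
  have hdeg : p.natDegree = q ^ 2 := by
    have : q < q ^ 2 := by nlinarith
    have h1 : 1 < q ^ 2 := by nlinarith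
    simp only [p]
    compute_degree!
    all_goals first | omega | (rw [if_neg (by omega), if_neg (by omega)]; simp) | (constructor <;> omega) | simp
  have hp0 : p ≠ 0 := fun e => by rw [e, Polynomial.natDegree_zero] at hdeg; nlinarith
  have hroots : (Finset.univ : Finset K).val ⊆ p.roots := by
    intro x _
    rw [Polynomial.mem_roots hp0]
    have := congrArg (Subtype.val : fixF φ → K) (hcon x)
    rw [H.coe_T, H.hφ (φ x), H.hφ, ← pow_mul, ← sq] at this
    simp only [p, Polynomial.IsRoot, Polynomial.eval_add, Polynomial.eval_pow, Polynomial.eval_X]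
    linear_combination this + (ZeroMemClass.coe_zero (fixF φ) : ((0 : fixF φ) : K) = 0)
  have hc := (Multiset.card_le_card ((Multiset.le_iff_subset Finset.univ.nodup).2 hroots)).trans p.card_roots'
  rw [Finset.card_val, Finset.card_univ, H.hK, hdeg] at hc
  have : q ^ 2 < q ^ 3 := by gcongr <;> omega
  omega

theorem Hyp.T_surjective : Function.Surjective H.T := fun s => by
  obtain ⟨x, hx⟩ := H.T_ne_zero
  exact ⟨((s * (H.T x)⁻¹ : fixF φ) : K) * x, by rw [H.T_smul, mul_assoc, inv_mul_cancel₀ hx, mul_one]⟩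

/-- The norm of a unit, inside the fixed field. -/
theorem Hyp.exists_norm {s : fixF φ} (hs : s ≠ 0) : ∃ t : Kˣ, (t : K) * φ t * φ (φ t) = s := by
  classical
  have := Fintype.ofFinite (fixF φ)
  have h2 := H.two_le
  have hq : Fintype.card (fixF φ) = q := by rw [Fintype.card_eq_nat_card, H.card_k]
  let f : Kˣ → (fixF φ)ˣ := fun t =>
    Units.mk0 ⟨(t : K) * φ t * φ (φ t), by rw [mem_fixF, map_mul, map_mul, H.phi3]; ring⟩
      (fun e => mul_ne_zero (mul_ne_zero t.ne_zero (by simp)) (by simp) (congrArg Subtype.val e))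
  suffices hf : Function.Surjective f by
    obtain ⟨t, ht⟩ := hf (Units.mk0 s hs)
    exact ⟨t, congrArg (fun u : (fixF φ)ˣ => ((u : fixF φ) : K)) ht⟩
  have hfib : ∀ b ∈ (Finset.univ : Finset Kˣ).image f,
      (Finset.univ.filter fun t => f t = b).card ≤ q ^ 2 + q + 1 := by
    intro b _
    open Polynomial in
    let p : K[X] := X ^ (q ^ 2 + q + 1) - C ((b : fixF φ) : K)
    have hdeg : p.natDegree = q ^ 2 + q + 1 := natDegree_X_pow_sub_C
    have hp0 : p ≠ 0 := fun e => by rw [e, Polynomial.natDegree_zero] at hdeg; omega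
    have hsub : ((Finset.univ.filter fun t => f t = b).image (fun t : Kˣ => (t : K))).val ⊆ p.roots := by
      intro x hx
      rw [Finset.mem_val, Finset.mem_image] at hx
      obtain ⟨t, ht, rfl⟩ := hx
      rw [Polynomial.mem_roots hp0]
      have e := congrArg (fun u : (fixF φ)ˣ => ((u : fixF φ) : K)) (Finset.mem_filter.1 ht).2
      simp only [f, Units.val_mk0] at e
      simp only [p, Polynomial.IsRoot, Polynomial.eval_sub, Polynomial.eval_pow, Polynomial.eval_X,
        Polynomial.eval_C, sub_eq_zero]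
      rw [← e, H.hφ (φ t), H.hφ, ← pow_mul, ← sq, pow_add, pow_add, pow_one]
      ring
    have hc := (Multiset.card_le_card ((Multiset.le_iff_subset (Finset.nodup _)).2 hsub)).trans p.card_roots'
    rwa [Finset.card_val, Finset.card_image_of_injective _ Units.val_injective, hdeg] at hc
  have h1 := Finset.card_le_mul_card_image (Finset.univ : Finset Kˣ) _ hfib
  rw [Finset.card_univ, Fintype.card_units, H.hK] at h1
  intro b
  by_contra hb
  have h3 : ((Finset.univ : Finset Kˣ).image f).card < q - 1 := by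
    rw [← hq, ← Fintype.card_units, ← Finset.card_univ]
    refine Finset.card_lt_card ⟨Finset.subset_univ _, fun h => ?_⟩
    obtain ⟨t, -, ht⟩ := Finset.mem_image.1 (h (Finset.mem_univ b))
    exact hb ⟨t, ht⟩
  have h4 : (q ^ 2 + q + 1) * (q - 1) = q ^ 3 - 1 := by
    obtain ⟨r, rfl⟩ : ∃ r, q = r + 1 := ⟨q - 1, by omega⟩
    have : (r + 1) ^ 3 = ((r + 1) ^ 2 + (r + 1) + 1) * r + 1 := by ring
    rw [this]; simp
  have h5 : (q ^ 2 + q + 1) * ((Finset.univ : Finset Kˣ).image f).card < (q ^ 2 + q + 1) * (q - 1) :=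
    (Nat.mul_lt_mul_left (by omega)).2 h3
  omega

/-- An element moved by the automorphism. -/
theorem Hyp.exists_moved : ∃ x : K, φ x ≠ x := by
  by_contra hcon
  push Not at hcon
  have h := H.card_k
  rw [show (fixF φ) = ⊤ from top_unique fun x _ => hcon x, Nat.card_congr Subfield.topEquiv.toEquiv,
    Nat.card_eq_fintype_card, H.hK] at h
  have := H.two_le
  have h13 : q ^ 1 < q ^ 3 := by gcongr <;> omega
  rw [pow_one] at h13
  omega

/-- A unit of norm one whose square is not one. -/
theorem Hyp.exists_norm_one : ∃ t : Kˣ, (t : K) * φ t * φ (φ t) = 1 ∧ (t : K) ^ 2 ≠ 1 := by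
  obtain ⟨x, hx⟩ := H.exists_moved
  suffices ∃ y : K, y ≠ 0 ∧ φ y ≠ y ∧ φ y ≠ -y by
    obtain ⟨y, hy0, h1, h2⟩ := this
    have hφy : φ y ≠ 0 := by simpa using hy0
    refine ⟨Units.mk0 (φ y / y) (div_ne_zero hφy hy0), ?_, ?_⟩
    · simp only [Units.val_mk0, map_div₀, H.phi3]
      have : φ (φ y) ≠ 0 := by simpa using hy0
      field_simp
    · simp only [Units.val_mk0, Ne, sq_eq_one_iff, div_eq_iff hy0, one_mul, neg_one_mul]
      exact fun e => e.elim h1 h2
  have hx0 : x ≠ 0 := fun e => hx (by simp [e])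
  by_cases h2 : φ x = -x
  · exfalso
    refine hx ?_
    calc φ x = φ (φ (φ (φ x))) := (H.phi3 _).symm
      _ = x := by simp [h2]
  · exact ⟨x, hx0, hx, h2⟩

open Classical in
/-- The images of a torus character of `K` with kernel `± 1` are numerous. -/
theorem Hyp.card_image_le {g : Kˣ → K} (hg : ∀ a b : Kˣ, g a = g b → (a : K) ^ 2 = (b : K) ^ 2) :
    q ≤ ((Finset.univ : Finset Kˣ).image g).card := by
  classical
  have h2 := H.two_le
  have hfib : ∀ b ∈ (Finset.univ : Finset Kˣ).image g,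
      (Finset.univ.filter fun t => g t = b).card ≤ 2 := by
    intro b hb
    obtain ⟨a, -, rfl⟩ := Finset.mem_image.1 hb
    calc (Finset.univ.filter fun t => g t = g a).card ≤ ({a, -a} : Finset Kˣ).card := by
          refine Finset.card_le_card fun t ht => ?_
          have e := hg _ _ (Finset.mem_filter.1 ht).2
          rcases sq_eq_sq_iff_eq_or_eq_neg.1 e with e | e
          · exact Finset.mem_insert.2 (Or.inl (Units.ext e))
          · exact Finset.mem_insert.2 (Or.inr (Finset.mem_singleton.2 (Units.ext (by simpa using e))))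
      _ ≤ 2 := Finset.card_le_two
  have h1 := Finset.card_le_mul_card_image (Finset.univ : Finset Kˣ) _ hfib
  rw [Finset.card_univ, Fintype.card_units, H.hK] at h1
  have h3 : 4 * q ≤ q ^ 3 := by nlinarith [Nat.mul_le_mul h2 h2, Nat.mul_le_mul_right q (Nat.mul_le_mul h2 h2)]
  omega

theorem Hyp.kd_inj (a b : Kˣ) (e : kd φ a = kd φ b) : (a : K) ^ 2 = (b : K) ^ 2 := by
  have e2 := congrArg φ e
  obtain ⟨a1, a2⟩ := ne0 (φ := φ) a
  obtain ⟨b1, b2⟩ := ne0 (φ := φ) b
  simp only [kd, map_div₀, map_mul, H.phi3] at e e2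
  have h : kd φ a * φ (kd φ a) = kd φ b * φ (kd φ b) := by
    simp only [kd, map_div₀, map_mul, H.phi3, e, e2]
  simp only [kd, map_div₀, map_mul, H.phi3] at h
  field_simp at h
  exact h

theorem Hyp.kc_inj (a b : Kˣ) (e : kc φ a = kc φ b) : (a : K) ^ 2 = (b : K) ^ 2 := by
  obtain ⟨a1, a2⟩ := ne0 (φ := φ) a
  obtain ⟨b1, b2⟩ := ne0 (φ := φ) b
  have e2 := congrArg φ e
  have e3 := congrArg (fun z => φ (φ z)) e
  simp only [kc, map_div₀, map_mul, H.phi3] at e e2 e3
  -- the product of the two other conjugates is `1 / a²`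
  have h : φ (kc φ a) * φ (φ (kc φ a)) = φ (kc φ b) * φ (φ (kc φ b)) := by
    simp only [kc, map_div₀, map_mul, H.phi3, e2, e3]
  simp only [kc, map_div₀, map_mul, H.phi3] at h
  field_simp at h
  exact h.symm

end Cfsg.Agent.Lib.D4Deg41
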