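import Cfsg.Agent.Lib.D4Deg41.Counting

/-!
The fixed space of the two long root subgroups.
-/

set_option autoImplicit false

namespace Cfsg.Agent.Lib.D4Deg41

open Cfsg.Lie Module Cfsg.Agent.Lib.ReeDeg41 Cfsg.Agent.Lib.Twisted.Core

section Rep

variable {K : Type*} [Field K] {q : ℕ} {V : Type*} [AddCommGroup V] [Module ℂ V]
  (π : ↥(twistedD4 K q) →* Module.End ℂ V)

theorem rep_mul_apply {g h : ↥(twistedD4 K q)} {v : V} : π (g * h) v = π g (π h v) := by rw [map_mul]; rfl

theorem rep_injective (g : ↥(twistedD4 K q)) : Function.Injective (π g) := fun v w e => by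
  have := congrArg (π g⁻¹) e
  rwa [← rep_mul_apply, ← rep_mul_apply, inv_mul_cancel, map_one] at this

theorem fix_of {g z z' : ↥(twistedD4 K q)} (h : z' * g = g * z) {v : V} (hz : π z v = v) :
    π z' (π g v) = π g v := by rw [← rep_mul_apply, h, rep_mul_apply, hz]

end Rep

variable {K : Type*} [Field K] [Fintype K] {q : ℕ} {φ : K ≃+* K} (H : Hyp K q φ)
include H

variable {V : Type*} [AddCommGroup V] [Module ℂ V] [FiniteDimensional ℂ V]
  (π : ↥(twistedD4 K q) →* Module.End ℂ V)

/-- The subgroup preserving the fixed space. -/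
def stab : Subgroup ↥(twistedD4 K q) :=
  have hpow : ∀ (g : ↥(twistedD4 K q)), (∀ v ∈ fixW H π, π g v ∈ fixW H π) → ∀ n : ℕ, ∀ v ∈ fixW H π,
      π (g ^ n) v ∈ fixW H π := fun g hg n => by
    induction n with
    | zero => intro v hv; simpa using hv
    | succ n ih => intro v hv; rw [pow_succ, rep_mul_apply]; exact ih _ (hg v hv)
  { carrier := {g | ∀ v ∈ fixW H π, π g v ∈ fixW H π}
    one_mem' := fun v hv => by simpa using hv
    mul_mem' := fun {g h} hg hh v hv => by rw [rep_mul_apply]; exact hg _ (hh v hv)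
    inv_mem' := fun {g} hg v hv => by
      rw [show g⁻¹ = g ^ (orderOf g - 1) from inv_eq_of_mul_eq_one_right (by
        rw [← pow_succ', Nat.sub_add_cancel (orderOf_pos g), pow_orderOf_eq_one])]
      exact hpow g hg _ v hv }

/-- The representation on the fixed space. -/
noncomputable def repW : ↥(stab H π) →* Module.End ℂ ↥(fixW H π) where
  toFun g := (π (g : ↥(twistedD4 K q))).restrict g.2
  map_one' := LinearMap.ext fun v => Subtype.ext (by simp [LinearMap.restrict_apply])
  map_mul' g h := LinearMap.ext fun v => Subtype.ext (rep_mul_apply π : _ = π g (π h v))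

omit [FiniteDimensional ℂ V] in
theorem coe_repW (g : ↥(stab H π)) (v : ↥(fixW H π)) :
    ((repW H π g v : ↥(fixW H π)) : V) = π (g : ↥(twistedD4 K q)) v := rfl

omit [FiniteDimensional ℂ V] in
theorem mem_stab_of_commute {g : ↥(twistedD4 K q)} (he : ∀ u, Commute g (xe H u))
    (hf : ∀ u, Commute g (xf H u)) : g ∈ stab H π := fun _ hv u =>
  ⟨fix_of π (he u).eq.symm (hv u).1, fix_of π (hf u).eq.symm (hv u).2⟩

omit [FiniteDimensional ℂ V] in
theorem xd_mem (v : K) : xd H v ∈ stab H π := mem_stab_of_commute H π (d_e H v) (d_f H v)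

omit [FiniteDimensional ℂ V] in
theorem xc_mem (r : K) : xc H r ∈ stab H π := mem_stab_of_commute H π (c_e H r) (c_f H r)

omit [FiniteDimensional ℂ V] in
theorem xa_mem (t : K) : xa H t ∈ stab H π := mem_stab_of_commute H π (a_e H t) (a_f H t)

omit [FiniteDimensional ℂ V] in
theorem xb_mem (s : fixF φ) : xb H s ∈ stab H π := fun v hv u => by
  refine ⟨fix_of π (z := xe H u * xf H (-(s * u))) ?_ ?_, fix_of π (b_f H s u).eq.symm (hv u).2⟩
  · rw [← mul_assoc, b_e, mul_assoc, mul_assoc, ← xf_add, add_neg_cancel, xf_zero, mul_one]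
  · rw [rep_mul_apply, (hv _).2, (hv u).1]

omit [FiniteDimensional ℂ V] in
theorem wb_mem : wb H ∈ stab H π := fun v hv u =>
  ⟨fix_of π (z := xf H (-u)) (by rw [wb_f, neg_neg]) (hv _).2,
    fix_of π (z := xe H u) (wb_e H u).symm (hv u).1⟩

omit [FiniteDimensional ℂ V] in
theorem ht_mem (t : Kˣ) : ht H t ∈ stab H π := fun v hv u => by
  refine ⟨fix_of π (z := xe H (↑(H.nrm t)⁻¹ * u)) ?_ (hv _).1, fix_of π (ht_f H t u).symm (hv u).2⟩
  rw [ht_e, Units.mul_inv_cancel_left]

/-- An abelian group of parameters in `K`, scaled by a torus character with small kernel, gives `q`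
dimensions if it acts nontrivially. -/
theorem scale_bound (x : K → ↥(twistedD4 K q)) (hx : ∀ a b, x (a + b) = x a * x b) (hxm : ∀ a, x a ∈ stab H π)
    (k : Kˣ → K) (hk0 : ∀ t, k t ≠ 0) (hk : ∀ a b : Kˣ, k a = k b → (a : K) ^ 2 = (b : K) ^ 2)
    (hconj : ∀ t r, ht H t * x r = x (k t * r) * ht H t) {v : V} (hv : v ∈ fixW H π) {r : K}
    (hne : π (x r) v ≠ v) : q ≤ finrank ℂ ↥(fixW H π) := by
  classical
  let a : K → ↥(stab H π) := fun r => ⟨x r, hxm r⟩
  have ha : ∀ p p', a (p + p') = a p * a p' := fun p p' => Subtype.ext (hx p p')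
  obtain ⟨χ, hχ, hd⟩ := exists_char_ne (repW H π) ha (z := r) (fun e =>
    hne (congrArg Subtype.val (LinearMap.congr_fun e ⟨v, hv⟩)))
  obtain ⟨g, hg⟩ := H.exists_psiT_mul χ
  have hg0 : g ≠ 0 := fun e => hχ (by simp [hg, e])
  refine le_trans ?_ (orbit_le (repW H π) ha (fun t : Kˣ => ⟨ht H t, ht_mem H π t⟩)
    (fun t => AddEquiv.mk' (Equiv.mulLeft₀ (k t) (hk0 t)) (fun p p' => mul_add (k t) p p'))
    (fun t p => Subtype.ext (hconj t p)) hd)
  refine (H.card_image_le hk).trans (le_of_eq ?_)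
  symm
  rw [← Finset.card_image_of_injective _ (fun a b e => ?_ : Function.Injective
    fun c : K => H.psi.compAddMonoidHom (H.T.comp (AddMonoidHom.mulLeft (g * c)))), Finset.image_image]
  · congr 1
    refine Finset.image_congr fun t _ => DFunLike.ext _ _ fun p => ?_
    show χ (k t * p) = H.psi (H.T (g * k t * p))
    rw [hg, mul_assoc]
  · exact mul_left_cancel₀ hg0 (H.psiT_inj fun p => DFunLike.congr_fun e p)

omit [FiniteDimensional ℂ V] in
/-- The four families of generators fix only vectors fixed by the group. -/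
theorem fixed_all {v : V} (hb : ∀ s, π (xb H s) v = v) (hnb : ∀ s, π (xnb H s) v = v)
    (ha : ∀ t, π (xa H t) v = v) (hna : ∀ t, π (xna H t) v = v) (g : ↥(twistedD4 K q)) : π g v = v := by
  let S : Subgroup ↥(twistedD4 K q) :=
    { carrier := {g | π g v = v}
      one_mem' := by simp
      mul_mem' := fun {g h} hg hh => by
        show π (g * h) v = v
        rw [rep_mul_apply, hh, hg]
      inv_mem' := fun {g} hg => rep_injective π g (by
        show π g (π g⁻¹ v) = π g v
        rw [← rep_mul_apply, mul_inv_cancel, map_one, hg]; rfl) }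
  suffices h : twistedD4 K q ≤ S.map (twistedD4 K q).subtype by
    obtain ⟨g', hg', e⟩ := h g.2
    rw [← Subtype.ext (e : (g' : GL chevD4.Idx K) = g)]
    exact hg'
  conv_lhs => rw [twistedD4, ChevalleyDatum.genSubgroup]
  rw [Subgroup.closure_le]
  rintro x ⟨w, hw, ex⟩
  have key : ∀ r, r < 24 → ∀ t : K, (chevD4.x K r t) = ((X r t : GL chevD4.Idx K) : Matrix _ _ K) :=
    fun r _ t => (ChevOver.coe_xg rootedD4 r t).symm
  rcases hw with ⟨t, ht, r, hr, rfl⟩ | ⟨t, rs, hrs, rfl⟩
  · have ht' : t ∈ fixF φ := by rw [mem_fixF, H.hφ, ht]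
    simp only [List.mem_cons, List.not_mem_nil, or_false] at hr
    rcases hr with rfl | rfl
    · exact ⟨xb H ⟨t, ht'⟩, hb _, Units.ext (by
        rw [ex]; simp [ChevalleyDatum.wordMat, key 14 (by norm_num), d4p2, coe_xb])⟩
    · exact ⟨xnb H ⟨t, ht'⟩, hnb _, Units.ext (by
        rw [ex]; simp [ChevalleyDatum.wordMat, key 9 (by norm_num), d4m2, coe_xnb])⟩
  · have e2 : t ^ q ^ 2 = φ (φ t) := by rw [H.hφ, H.hφ, ← pow_mul, sq]
    simp only [List.mem_cons, List.not_mem_nil, or_false] at hrs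
    rcases hrs with rfl | rfl
    · exact ⟨xa H t, ha _, Units.ext (by
        rw [ex, e2, ← H.hφ]; simp [ChevalleyDatum.wordMat, d4p1, d4p3, d4p4, coe_xa, XA, key 18 (by norm_num),
          key 13 (by norm_num), key 12 (by norm_num)])⟩
    · exact ⟨xna H t, hna _, Units.ext (by
        rw [ex, e2, ← H.hφ]; simp [ChevalleyDatum.wordMat, d4m1, d4m3, d4m4, coe_xna, XN, key 5 (by norm_num),
          key 10 (by norm_num), key 11 (by norm_num)])⟩

end Cfsg.Agent.Lib.D4Deg41
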