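import Cfsg.Agent.Lib.D4Deg41.FixedSpace
import Cfsg.Agent.Lib.D4Deg41.Arith

/-!
Every irreducible nontrivial representation of `³D₄(q)` has degree at least `q (q⁴ - q² + 1)`.
-/

set_option autoImplicit false

namespace Cfsg.Agent.Lib.D4Deg41

open Cfsg.Lie Module Cfsg.Agent.Lib.ReeDeg41 Cfsg.Agent.Lib.Twisted.Core

variable {K : Type*} [Field K] [Fintype K] {q : ℕ} {φ : K ≃+* K} (H : Hyp K q φ)
include H

variable {V : Type*} [AddCommGroup V] [Module ℂ V] [FiniteDimensional ℂ V]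
  (π : ↥(twistedD4 K q) →* Module.End ℂ V)

theorem fixW_ne_bot (h1 : mult H π (0, 0, 1) = 1) : fixW H π ≠ ⊥ := by
  classical
  intro hbot
  set χ := H.chr (0, 0, 1)
  obtain ⟨v, hvmem, hv0⟩ : ∃ v ∈ LinearMap.range (proj π (aA H) χ), v ≠ 0 := by
    refine Submodule.exists_mem_ne_zero_of_ne_bot fun e => ?_
    rw [mult, dimChar, show LinearMap.range (proj π (aA H) χ) = ⊥ from e, finrank_bot] at h1
    exact zero_ne_one h1
  have hA : ∀ p, π (aA H p) v = χ p • v := fun p => by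
    obtain ⟨w, rfl⟩ := hvmem
    exact LinearMap.congr_fun (act_proj π (aA_add H) p χ) w
  have hf : ∀ u, π (xf H u) v = v := fun u => by
    rw [← aA_f, hA, show χ (u, 0, 0) = 1 by simp [χ, H.chr_apply], one_smul]
  have hd : ∀ w, π (xd H w) v = v := fun w => by
    rw [← aA_d, hA, show χ (0, w, 0) = 1 by simp [χ, H.chr_apply], one_smul]
  have he : ∀ u, π (xe H u) v = H.psi u • v := fun u => by
    rw [← aA_e, hA, show χ (0, 0, u) = H.psi u by simp [χ, H.chr_apply]]
  -- the first root: a character of `fixF`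
  have hb : ∀ s, ∃ c : ℂ, π (xb H s) v = c • v := fun s =>
    eigen_line π h1 hv0 hvmem _ (b_aA H s) (by rw [← lT_zero H, chr_shF]; simp [χ])
  choose cb hcb using hb
  have hc : ∀ r, ∃ c : ℂ, π (xc H r) v = c • v := fun r =>
    eigen_line π h1 hv0 hvmem _ (c_aA H r) (by rw [chr_shF]; simp [χ])
  choose cc hcc using hc
  have cancel : ∀ {c d : ℂ}, c • v = d • v → c = d := fun {c d} e =>
    smul_left_injective ℂ hv0 e
  have xc_zero : xc H 0 = 1 := left_eq_mul.1 (show xc H 0 = xc H 0 * xc H 0 by rw [← xc_add, add_zero])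
  let β : AddChar K ℂ :=
    { toFun := cc
      map_zero_eq_one' := cancel (by rw [← hcc, xc_zero, map_one, one_smul]; rfl)
      map_add_eq_mul' := fun a b => cancel (by
        rw [← hcc, xc_add, rep_mul_apply, hcc, map_smul, hcc, smul_smul, mul_comm]) }
  let α : AddChar (fixF φ) ℂ :=
    { toFun := cb
      map_zero_eq_one' := cancel (by rw [← hcb, xb_zero, map_one, one_smul]; rfl)
      map_add_eq_mul' := fun a b => cancel (by
        rw [← hcb, xb_add, rep_mul_apply, hcb, map_smul, hcb, smul_smul, mul_comm]) }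
  -- `β` is trivial
  obtain ⟨t, htn, htsq⟩ := H.exists_norm_one
  have hN : H.nrm t = 1 := Units.ext (Subtype.ext htn)
  obtain ⟨ct, hct⟩ := eigen_line π h1 hv0 hvmem _ (ht_aA H t) (by rw [chr_dia, hN]; simp [χ])
  have hct0 : ct ≠ 0 := fun e => hv0 (rep_injective π (ht H t) (by rw [hct, e, zero_smul, map_zero]))
  have hinv : ∀ r, cc (kc φ t * r) = cc r := fun r => by
    have e1 : π (ht H t) (π (xc H r) v) = π (xc H (kc φ t * r)) (π (ht H t) v) := by
      rw [← rep_mul_apply, ← rep_mul_apply, ht_c]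
    rw [hcc, map_smul, hct, map_smul, hcc, smul_smul, smul_smul] at e1
    have := cancel e1
    rw [mul_comm (cc r)] at this
    exact (mul_left_cancel₀ hct0 this).symm
  have hkc : kc φ t ≠ 1 := by
    obtain ⟨n1, n2⟩ := ne0 (φ := φ) t
    intro e
    rw [kc, div_eq_one_iff_eq (mul_ne_zero n1 n2)] at e
    exact htsq (by rw [← htn, sq, mul_assoc]; exact congrArg _ e)
  have hβ : ∀ x, cc x = 1 := fun x => by
    obtain ⟨r, rfl⟩ : ∃ r, x = kc φ t * r - r := ⟨x / (kc φ t - 1), by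
      rw [← sub_one_mul, mul_div_cancel₀ _ (sub_ne_zero.2 hkc)]⟩
    show β (kc φ t * r - r) = 1
    rw [sub_eq_add_neg, AddChar.map_add_eq_mul, show β (kc φ t * r) = β r from hinv r,
      ← AddChar.map_add_eq_mul, add_neg_cancel, AddChar.map_zero_eq_one]
  obtain ⟨a, ha⟩ := H.exists_psi_mul α
  obtain ⟨u, hu⟩ : ∃ u : K, u * φ u * φ (φ u) = ((-a : fixF φ) : K) := by
    by_cases ha0 : a = 0
    · exact ⟨0, by simp [ha0]⟩
    · obtain ⟨u, hu⟩ := H.exists_norm (neg_ne_zero.2 ha0)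
      exact ⟨u, hu⟩
  have hbfix : ∀ s, π (xb H s) (π (xa H u) v) = π (xa H u) v := fun s => by
    obtain ⟨r, w, f, e⟩ := b_a H s u
    rw [← rep_mul_apply, e]
    simp only [rep_mul_apply]
    rw [hf, he, map_smul, hd, map_smul, hcc, hβ, one_smul, map_smul, hcb, smul_smul, map_smul]
    rw [show cb s = H.psi (a * s) from ha s, ← AddChar.map_add_eq_mul]
    refine (congrArg (fun c : ℂ => c • π (xa H u) v) ?_).trans (one_smul ℂ _)
    rw [← AddChar.map_zero_eq_one H.psi]
    congr 1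
    refine Subtype.ext ?_
    push_cast
    rw [hu]
    push_cast
    ring
  set w0 := π (xa H u) v with hw0
  have hffix : ∀ s, π (xf H s) w0 = w0 := fun s => fix_of π (a_f H u s).eq.symm (hf s)
  have hmem : π (wa H) w0 ∈ fixW H π := fun s =>
    ⟨fix_of π (z := xb H (-s)) (by rw [wa_b, neg_neg]) (hbfix _), fix_of π (wa_f H s).symm (hffix s)⟩
  rw [hbot, Submodule.mem_bot] at hmem
  refine hv0 (rep_injective π (xa H u) (rep_injective π (wa H) ?_))
  rw [map_zero, map_zero]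
  exact hmem

/-- The fixed space is large, or of dimension exactly `q - 1`. -/
theorem fixW_bound (hne : fixW H π ≠ ⊥) (hfix : ∀ v : V, (∀ g, π g v = v) → v = 0) :
    q ≤ finrank ℂ (fixW H π) ∨ finrank ℂ (fixW H π) = q - 1 := by
  classical
  by_cases hD : ∀ v ∈ fixW H π, ∀ r, π (xd H r) v = v
  swap
  · push Not at hD
    obtain ⟨v, hv, r, hr⟩ := hD
    exact Or.inl (scale_bound H π (xd H) (xd_add H) (xd_mem H π) _ H.kd_ne H.kd_inj (ht_d H) hv hr)
  by_cases hC : ∀ v ∈ fixW H π, ∀ r, π (xc H r) v = v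
  swap
  · push Not at hC
    obtain ⟨v, hv, r, hr⟩ := hC
    exact Or.inl (scale_bound H π (xc H) (xc_add H) (xc_mem H π) _ H.kc_ne H.kc_inj (ht_c H) hv hr)
  have hA : ∀ v ∈ fixW H π, ∀ t, π (xa H t) v = v := fun v hv t => rep_injective π (wb H) (by
    rw [← rep_mul_apply, wb_a, rep_mul_apply, hC _ (wb_mem H π v hv)])
  let b : fixF φ → ↥(stab H π) := fun s => ⟨xb H s, xb_mem H π s⟩
  have hb : ∀ p p', b (p + p') = b p * b p' := fun p p' => Subtype.ext (xb_add H p p')
  let m : AddChar (fixF φ) ℂ → ℕ := dimChar (repW H π) b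
  obtain ⟨χ₁, hχ₁, hd₁⟩ : ∃ χ : AddChar (fixF φ) ℂ, χ ≠ 0 ∧ m χ ≠ 0 := by
    by_contra hcon
    push Not at hcon
    have hBall : ∀ v ∈ fixW H π, ∀ s, π (xb H s) v = v := fun v hv s => by
      by_contra hs
      obtain ⟨χ, hχ, hd⟩ := exists_char_ne (repW H π) hb (z := s)
        (fun e => hs (congrArg Subtype.val (LinearMap.congr_fun e ⟨v, hv⟩)))
      exact hd (hcon χ fun e => hχ (by rw [e]; rfl))
    refine hne ((Submodule.eq_bot_iff _).2 fun v hv => hfix v ?_)
    have hnb : ∀ s, π (xnb H s) v = v := fun s => rep_injective π (wb H) (by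
      rw [← rep_mul_apply, wb_nb, rep_mul_apply, hBall _ (wb_mem H π v hv)])
    have hwa : π (wa H) v ∈ fixW H π := fun s =>
      ⟨fix_of π (z := xb H (-s)) (by rw [wa_b, neg_neg]) (hBall v hv _), fix_of π (wa_f H s).symm (hv s).2⟩
    have hna : ∀ t, π (xna H t) v = v := fun t => rep_injective π (wa H) (by
      rw [← rep_mul_apply, wa_na, rep_mul_apply, hA _ hwa])
    exact fixed_all H π (hBall v hv) hnb (hA v hv) hna
  obtain ⟨a₁, ha₁⟩ := H.exists_psi_mul χ₁
  have ha₁0 : a₁ ≠ 0 := fun e => hχ₁ (DFunLike.ext _ _ fun s => by rw [ha₁, e, zero_mul, AddChar.map_zero_eq_one]; rfl)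
  have hall : ∀ χ : AddChar (fixF φ) ℂ, χ ≠ 0 → m χ = m χ₁ := fun χ hχ => by
    obtain ⟨a, ha⟩ := H.exists_psi_mul χ
    have ha0 : a ≠ 0 := fun e => hχ (DFunLike.ext _ _ fun s => by rw [ha, e, zero_mul, AddChar.map_zero_eq_one]; rfl)
    obtain ⟨t, htn⟩ := H.exists_norm (div_ne_zero ha₁0 ha0)
    have hN : (H.nrm t : fixF φ) = a₁ / a := Subtype.ext (by rw [H.coe_nrm, htn])
    let e : fixF φ ≃+ fixF φ := AddEquiv.mk' (Equiv.mulLeft₀ (↑(H.nrm t)⁻¹ : fixF φ) (Units.ne_zero _))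
      (fun p p' => mul_add _ p p')
    have h := dimChar_conj (repW H π) hb (g := ⟨ht H t, ht_mem H π t⟩) e (fun s => Subtype.ext (ht_b H t s)) χ₁
    show dimChar (repW H π) b χ = dimChar (repW H π) b χ₁
    rw [← h]
    congr 1
    refine DFunLike.ext _ _ fun s => ?_
    show χ s = χ₁ (↑(H.nrm t)⁻¹ * s)
    rw [ha, ha₁, ← mul_assoc, Units.val_inv_eq_inv_val, hN, inv_div, mul_div_cancel₀ _ ha₁0]
  have hsum := sum_dimChar (repW H π) hb
  rw [← Finset.add_sum_erase _ _ (Finset.mem_univ (0 : AddChar (fixF φ) ℂ))] at hsum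
  rw [Finset.sum_eq_card_nsmul (b := m χ₁) (fun χ hχ => hall χ (Finset.ne_of_mem_erase hχ)),
    Finset.card_erase_of_mem (Finset.mem_univ _), Finset.card_univ, AddChar.card_eq, Fintype.card_eq_nat_card,
    H.card_k, smul_eq_mul] at hsum
  have h2 := H.two_le
  rcases Nat.lt_or_ge (m χ₁) 2 with h | h
  · rw [show m χ₁ = 1 by omega, mul_one] at hsum
    omega
  · have : (q - 1) * 2 ≤ (q - 1) * m χ₁ := Nat.mul_le_mul_left _ h
    omega

/-- The degree bound. -/
theorem degree_bound (hinj : Function.Injective π) (hfix : ∀ v : V, (∀ g, π g v = v) → v = 0)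
    (hdvd : finrank ℂ V ∣ Nat.card ↥(twistedD4 K q)) : q * (q ^ 4 - q ^ 2 + 1) ≤ finrank ℂ V := by
  classical
  have h2 := H.two_le
  have hn : mult H π (0, 0, 1) ≠ 0 := by
    have hne : π (aA H (1, 0, 0)) ≠ 1 := fun e => by
      rw [aA_f, ← map_one π] at e
      have e1 : X 23 (1 : K) = X 23 (0 : K) := by
        rw [X_zero]; exact congrArg Subtype.val (hinj e)
      exact one_ne_zero (ChevOver.xg_injective rootedD4 (show 23 < chevD4.nroots by decide) e1)
    obtain ⟨χ, hχ, hd⟩ := exists_char_ne π (aA_add H) hne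
    obtain ⟨m, rfl⟩ := H.exists_chr χ
    have hm : m.1 ≠ 0 := fun e => hχ (by simp [H.chr_apply, e])
    rw [← mult_const H π m (Or.inl hm)]
    exact hd
  have hdim := finrank_eq H π
  have hS := card_bigSet H
  have e5 : q * (q ^ 3 * q) = q ^ 5 := by ring
  have htgt : q * (q ^ 4 - q ^ 2 + 1) + q ^ 3 = q ^ 5 + q := by
    have hle : q ^ 2 ≤ q ^ 4 := Nat.pow_le_pow_right (by omega) (by norm_num)
    have : q * (q ^ 4 - q ^ 2 + 1) + q * q ^ 2 = q * (q ^ 4 + 1) := by
      rw [← mul_add]; congr 1; omega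
    calc _ = q * (q ^ 4 - q ^ 2 + 1) + q * q ^ 2 := by ring
      _ = _ := by rw [this]; ring
  rw [e5] at hS
  rcases Nat.lt_or_ge (mult H π (0, 0, 1)) 2 with h | h
  · have h1 : mult H π (0, 0, 1) = 1 := by omega
    rw [h1, mul_one] at hdim
    rcases fixW_bound H π (fixW_ne_bot H π h1) hfix with hw | hw
    · omega
    · exfalso
      have hd : finrank ℂ V = (q - 1) * (q ^ 4 + q ^ 3 + 1) := by
        have : (q - 1) * (q ^ 4 + q ^ 3 + 1) + q ^ 3 + 1 = q ^ 5 + q := by
          obtain ⟨r, rfl⟩ : ∃ r, q = r + 1 := ⟨q - 1, by omega⟩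
          simp only [Nat.add_sub_cancel]; ring
        omega
      refine not_dvd_order h2 rfl ((Dvd.intro_left _ hd.symm).trans ?_)
      rw [← Twisted.Core.d4_card H.hq H.hK]
      exact hdvd
  · have hmul : (bigSet φ).card * 2 ≤ (bigSet φ).card * mult H π (0, 0, 1) := Nat.mul_le_mul_left _ h
    have : 4 * q ^ 3 ≤ q ^ 5 := by
      rw [show q ^ 5 = q ^ 2 * q ^ 3 by ring]
      exact Nat.mul_le_mul_right _ (by nlinarith)
    have hq3 : q ≤ q ^ 3 := Nat.le_self_pow (by norm_num) q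
    omega

end Cfsg.Agent.Lib.D4Deg41
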