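import Cfsg.Agent.Lib.D4Deg41.Swaps
import Cfsg.Agent.Lib.D4Deg41.FieldData

/-!
Root elements, Weyl elements and torus elements of `³D₄(q)` and the relations between them.
-/

set_option autoImplicit false
set_option linter.unusedSimpArgs false

namespace Cfsg.Agent.Lib.D4Deg41

open Cfsg.Lie Cfsg.Agent.Lib.Chev Cfsg.Agent.Lib.ChevOver Cfsg.Agent.Lib.Twisted Cfsg.Agent.Lib.Twisted.Core

variable {K : Type*} [Field K] {q : ℕ} {φ : K ≃+* K}

variable (φ) in
/-- The fixed element on the orbit of `a`. -/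
noncomputable def XA (t : K) : GL chevD4.Idx K := X 18 t * (X 13 (φ t) * X 12 (φ (φ t)))

variable (φ) in
/-- The fixed element on the orbit of `-a`. -/
noncomputable def XN (t : K) : GL chevD4.Idx K := X 5 t * (X 10 (φ t) * X 11 (φ (φ t)))

variable (φ) in
/-- The fixed element on the orbit of `a + b`. -/
noncomputable def XC (r : K) : GL chevD4.Idx K := X 19 r * (X 16 (-φ r) * X 15 (-φ (φ r)))

variable (φ) in
/-- The fixed element on the orbit of `2a + b`. -/
noncomputable def XD (v : K) : GL chevD4.Idx K := X 20 v * (X 21 (φ v) * X 17 (-φ (φ v)))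

theorem swap5_10 (a b : K) : X 10 a * X 5 b = X 5 b * X 10 a := swap_nil (by decide +kernel) a b

theorem swap5_11 (a b : K) : X 11 a * X 5 b = X 5 b * X 11 a := swap_nil (by decide +kernel) a b

theorem swap10_11 (a b : K) : X 11 a * X 10 b = X 10 b * X 11 a := swap_nil (by decide +kernel) a b

theorem X_mem_group (r : ℕ) (t : K) : X r t ∈ chevD4.group K := xg_mem_group _ r t

theorem sig_X {r r' : ℕ} (hr : r < 24) (e : d4Graph.root r = r') (ε : ℤ) (hε : d4Graph.sign r = ε) (t : K) :
    (d4Twist φ).sig (X r t) = X r' ((ε : K) * φ t) := by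
  subst e hε
  have hr' : r < chevD4.nroots := hr
  unfold X
  rw [xg_eq rootedD4 hr']
  refine ((d4Twist φ).sig_x hr' t).trans ?_
  exact (xg_eq rootedD4 (show d4Graph.root r < chevD4.nroots from ((d4Twist φ).rho ⟨r, hr'⟩).2) _).symm

variable [Fintype K] (H : Hyp K q φ)
include H

theorem Hyp.mem_iff {g : GL chevD4.Idx K} :
    g ∈ twistedD4 K q ↔ g ∈ chevD4.group K ∧ (d4Twist φ).sig g = g := by
  rw [show twistedD4 K q = (d4Twist φ).fixedGroup from (d4Orbits H.hq H.hK φ H.hφ H.phi3).system.eq_fixedGroup]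
  exact (d4Twist φ).mem_fixedGroup

theorem single_mem {r : ℕ} (hr : r < 24) (e : d4Graph.root r = r) (he : d4Graph.sign r = 1) (s : fixF φ) :
    X r (s : K) ∈ twistedD4 K q :=
  H.mem_iff.2 ⟨X_mem_group _ _, by rw [sig_X hr e 1 he, Int.cast_one, one_mul, fixF_coe]⟩

theorem triple_mem {r₁ r₂ r₃ : ℕ} (h : r₁ < 24 ∧ r₂ < 24 ∧ r₃ < 24 ∧ d4Graph.root r₁ = r₂ ∧
      d4Graph.root r₂ = r₃ ∧ d4Graph.root r₃ = r₁) (e₁ e₂ e₃ : ℤ) (he : d4Graph.sign r₁ = e₁ ∧
      d4Graph.sign r₂ = e₂ ∧ d4Graph.sign r₃ = e₃) {a b c : K} (hab : b = (e₁ : K) * φ a)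
    (hbc : c = (e₂ : K) * φ b) (hca : a = (e₃ : K) * φ c)
    (h12 : ∀ x y : K, X r₂ x * X r₁ y = X r₁ y * X r₂ x) (h13 : ∀ x y : K, X r₃ x * X r₁ y = X r₁ y * X r₃ x) :
    X r₁ a * (X r₂ b * X r₃ c) ∈ twistedD4 K q := by
  obtain ⟨l1, l2, l3, g1, g2, g3⟩ := h
  refine H.mem_iff.2 ⟨mul_mem (X_mem_group _ _) (mul_mem (X_mem_group _ _) (X_mem_group _ _)), ?_⟩
  rw [(d4Twist φ).sig_mul (X_mem_group _ _) (mul_mem (X_mem_group _ _) (X_mem_group _ _)),
    (d4Twist φ).sig_mul (X_mem_group _ _) (X_mem_group _ _), sig_X l1 g1 e₁ he.1, sig_X l2 g2 e₂ he.2.1,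
    sig_X l3 g3 e₃ he.2.2, ← hab, ← hbc, ← hca, h13, ← mul_assoc, h12, mul_assoc]

/-- The element on `b`. -/
noncomputable def xb (s : fixF φ) : ↥(twistedD4 K q) :=
  ⟨X 14 (s : K), single_mem H (by norm_num) (by decide +kernel) (by decide +kernel) s⟩

/-- The element on `-b`. -/
noncomputable def xnb (s : fixF φ) : ↥(twistedD4 K q) :=
  ⟨X 9 (s : K), single_mem H (by norm_num) (by decide +kernel) (by decide +kernel) s⟩

/-- The element on `3a + b`. -/
noncomputable def xe (s : fixF φ) : ↥(twistedD4 K q) :=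
  ⟨X 22 (s : K), single_mem H (by norm_num) (by decide +kernel) (by decide +kernel) s⟩

/-- The element on `3a + 2b`. -/
noncomputable def xf (s : fixF φ) : ↥(twistedD4 K q) :=
  ⟨X 23 (s : K), single_mem H (by norm_num) (by decide +kernel) (by decide +kernel) s⟩

/-- The element on `a`. -/
noncomputable def xa (t : K) : ↥(twistedD4 K q) :=
  ⟨XA φ t, triple_mem H (by decide +kernel) 1 1 1 (by decide +kernel) (by simp) (by simp) (by simp [H.phi3])
    swap13_18 swap12_18⟩

/-- The element on `-a`. -/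
noncomputable def xna (t : K) : ↥(twistedD4 K q) :=
  ⟨XN φ t, triple_mem H (by decide +kernel) 1 1 1 (by decide +kernel) (by simp) (by simp) (by simp [H.phi3])
    swap5_10 swap5_11⟩

/-- The element on `a + b`. -/
noncomputable def xc (r : K) : ↥(twistedD4 K q) :=
  ⟨XC φ r, triple_mem H (by decide +kernel) (-1) 1 (-1) (by decide +kernel) (by simp) (by simp [map_neg])
    (by simp [H.phi3]) swap16_19 swap15_19⟩

/-- The element on `2a + b`. -/
noncomputable def xd (v : K) : ↥(twistedD4 K q) :=
  ⟨XD φ v, triple_mem H (by decide +kernel) 1 (-1) (-1) (by decide +kernel) (by simp) (by simp)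
    (by simp [H.phi3]) swap21_20 swap17_20⟩

theorem coe_xb (s : fixF φ) : (xb H s : GL chevD4.Idx K) = X 14 (s : K) := rfl
theorem coe_xnb (s : fixF φ) : (xnb H s : GL chevD4.Idx K) = X 9 (s : K) := rfl
theorem coe_xe (s : fixF φ) : (xe H s : GL chevD4.Idx K) = X 22 (s : K) := rfl
theorem coe_xf (s : fixF φ) : (xf H s : GL chevD4.Idx K) = X 23 (s : K) := rfl
theorem coe_xa (t : K) : (xa H t : GL chevD4.Idx K) = XA φ t := rfl
theorem coe_xna (t : K) : (xna H t : GL chevD4.Idx K) = XN φ t := rfl
theorem coe_xc (r : K) : (xc H r : GL chevD4.Idx K) = XC φ r := rfl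
theorem coe_xd (v : K) : (xd H v : GL chevD4.Idx K) = XD φ v := rfl

theorem xb_add (s s' : fixF φ) : xb H (s + s') = xb H s * xb H s' :=
  Subtype.ext (X_merge 14 (s : K) s').symm

theorem xnb_add (s s' : fixF φ) : xnb H (s + s') = xnb H s * xnb H s' :=
  Subtype.ext (X_merge 9 (s : K) s').symm

theorem xe_add (s s' : fixF φ) : xe H (s + s') = xe H s * xe H s' :=
  Subtype.ext (X_merge 22 (s : K) s').symm

theorem xf_add (s s' : fixF φ) : xf H (s + s') = xf H s * xf H s' :=
  Subtype.ext (X_merge 23 (s : K) s').symm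

theorem xa_add (t t' : K) : xa H (t + t') = xa H t * xa H t' := by
  refine Subtype.ext ?_
  simp only [Subgroup.coe_mul, coe_xa, XA]
  conv_rhs => simp only [mul_assoc, X_merge', X_merge, swap23_22, swap23_17, swap22_17, swap23_21, swap22_21, swap17_21, swap23_20, swap22_20, swap17_20, swap21_20, swap23_15, swap22_15, swap17_15, swap21_15, swap20_15, swap23_16, swap22_16, swap17_16, swap21_16, swap20_16, swap15_16, swap23_19, swap22_19, swap17_19, swap21_19, swap20_19, swap15_19, swap16_19, swap23_14, swap22_14, swap17_14, swap21_14, swap20_14, swap15_14, swap16_14, swap19_14, swap23_12, swap22_12, swap17_12, swap21_12, swap20_12, swap15_12, swap16_12, swap19_12, swap14_12, swap23_13, swap22_13, swap17_13, swap21_13, swap20_13, swap15_13, swap16_13, swap19_13, swap14_13, swap12_13, swap23_18, swap22_18, swap17_18, swap21_18, swap20_18, swap15_18, swap16_18, swap19_18, swap14_18, swap12_18, swap13_18, lift_swap (swap23_22 _ _), lift_swap (swap23_17 _ _), lift_swap (swap22_17 _ _), lift_swap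 (swap23_21 _ _), lift_swap (swap22_21 _ _), lift_swap (swap17_21 _ _), lift_swap (swap23_20 _ _), lift_swap (swap22_20 _ _), lift_swap (swap17_20 _ _), lift_swap (swap21_20 _ _), lift_swap (swap23_15 _ _), lift_swap (swap22_15 _ _), lift_swap (swap17_15 _ _), lift_swap (swap21_15 _ _), lift_swap (swap20_15 _ _), lift_swap (swap23_16 _ _), lift_swap (swap22_16 _ _), lift_swap (swap17_16 _ _), lift_swap (swap21_16 _ _), lift_swap (swap20_16 _ _), lift_swap (swap15_16 _ _), lift_swap (swap23_19 _ _), lift_swap (swap22_19 _ _), lift_swap (swap17_19 _ _), lift_swap (swap21_19 _ _), lift_swap (swap20_19 _ _), lift_swap (swap15_19 _ _), lift_swap (swap16_19 _ _), lift_swap (swap23_14 _ _), lift_swap (swap22_14 _ _), lift_swap (swap17_14 _ _), lift_swap (swap21_14 _ _), lift_swap (swap20_14 _ _), lift_swap (swap15_14 _ _), lift_swap (swap16_14 _ _), lift_swap (swap19_14 _ _), lift_swap (swap23_12 _ _), lift_swap (swap22_12 _ _), lift_swap (swap17_12 _ _), lift_swap (swap21_12 _ _), lift_swap (swap20_12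 _ _), lift_swap (swap15_12 _ _), lift_swap (swap16_12 _ _), lift_swap (swap19_12 _ _), lift_swap (swap14_12 _ _), lift_swap (swap23_13 _ _), lift_swap (swap22_13 _ _), lift_swap (swap17_13 _ _), lift_swap (swap21_13 _ _), lift_swap (swap20_13 _ _), lift_swap (swap15_13 _ _), lift_swap (swap16_13 _ _), lift_swap (swap19_13 _ _), lift_swap (swap14_13 _ _), lift_swap (swap12_13 _ _), lift_swap (swap23_18 _ _), lift_swap (swap22_18 _ _), lift_swap (swap17_18 _ _), lift_swap (swap21_18 _ _), lift_swap (swap20_18 _ _), lift_swap (swap15_18 _ _), lift_swap (swap16_18 _ _), lift_swap (swap19_18 _ _), lift_swap (swap14_18 _ _), lift_swap (swap12_18 _ _), lift_swap (swap13_18 _ _)]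
  simp only [map_add]

theorem xc_add (t t' : K) : xc H (t + t') = xc H t * xc H t' := by
  refine Subtype.ext ?_
  simp only [Subgroup.coe_mul, coe_xc, XC]
  conv_rhs => simp only [mul_assoc, X_merge', X_merge, swap23_22, swap23_17, swap22_17, swap23_21, swap22_21, swap17_21, swap23_20, swap22_20, swap17_20, swap21_20, swap23_15, swap22_15, swap17_15, swap21_15, swap20_15, swap23_16, swap22_16, swap17_16, swap21_16, swap20_16, swap15_16, swap23_19, swap22_19, swap17_19, swap21_19, swap20_19, swap15_19, swap16_19, swap23_14, swap22_14, swap17_14, swap21_14, swap20_14, swap15_14, swap16_14, swap19_14, swap23_12, swap22_12, swap17_12, swap21_12, swap20_12, swap15_12, swap16_12, swap19_12, swap14_12, swap23_13, swap22_13, swap17_13, swap21_13, swap20_13, swap15_13, swap16_13, swap19_13, swap14_13, swap12_13, swap23_18, swap22_18, swap17_18, swap21_18, swap20_18, swap15_18, swap16_18, swap19_18, swap14_18, swap12_18, swap13_18, lift_swap (swap23_22 _ _), lift_swap (swap23_17 _ _), lift_swap (swap22_17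 _ _), lift_swap (swap23_21 _ _), lift_swap (swap22_21 _ _), lift_swap (swap17_21 _ _), lift_swap (swap23_20 _ _), lift_swap (swap22_20 _ _), lift_swap (swap17_20 _ _), lift_swap (swap21_20 _ _), lift_swap (swap23_15 _ _), lift_swap (swap22_15 _ _), lift_swap (swap17_15 _ _), lift_swap (swap21_15 _ _), lift_swap (swap20_15 _ _), lift_swap (swap23_16 _ _), lift_swap (swap22_16 _ _), lift_swap (swap17_16 _ _), lift_swap (swap21_16 _ _), lift_swap (swap20_16 _ _), lift_swap (swap15_16 _ _), lift_swap (swap23_19 _ _), lift_swap (swap22_19 _ _), lift_swap (swap17_19 _ _), lift_swap (swap21_19 _ _), lift_swap (swap20_19 _ _), lift_swap (swap15_19 _ _), lift_swap (swap16_19 _ _), lift_swap (swap23_14 _ _), lift_swap (swap22_14 _ _), lift_swap (swap17_14 _ _), lift_swap (swap21_14 _ _), lift_swap (swap20_14 _ _), lift_swap (swap15_14 _ _), lift_swap (swap16_14 _ _), lift_swap (swap19_14 _ _), lift_swap (swap23_12 _ _), lift_swap (swap22_12 _ _), lift_swap (swap17_12 _ _), lift_swap (swap21_12 _ _),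 lift_swap (swap20_12 _ _), lift_swap (swap15_12 _ _), lift_swap (swap16_12 _ _), lift_swap (swap19_12 _ _), lift_swap (swap14_12 _ _), lift_swap (swap23_13 _ _), lift_swap (swap22_13 _ _), lift_swap (swap17_13 _ _), lift_swap (swap21_13 _ _), lift_swap (swap20_13 _ _), lift_swap (swap15_13 _ _), lift_swap (swap16_13 _ _), lift_swap (swap19_13 _ _), lift_swap (swap14_13 _ _), lift_swap (swap12_13 _ _), lift_swap (swap23_18 _ _), lift_swap (swap22_18 _ _), lift_swap (swap17_18 _ _), lift_swap (swap21_18 _ _), lift_swap (swap20_18 _ _), lift_swap (swap15_18 _ _), lift_swap (swap16_18 _ _), lift_swap (swap19_18 _ _), lift_swap (swap14_18 _ _), lift_swap (swap12_18 _ _), lift_swap (swap13_18 _ _)]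
  simp only [map_add, neg_add]

theorem xd_add (t t' : K) : xd H (t + t') = xd H t * xd H t' := by
  refine Subtype.ext ?_
  simp only [Subgroup.coe_mul, coe_xd, XD]
  conv_rhs => simp only [mul_assoc, X_merge', X_merge, swap23_22, swap23_17, swap22_17, swap23_21, swap22_21, swap17_21, swap23_20, swap22_20, swap17_20, swap21_20, swap23_15, swap22_15, swap17_15, swap21_15, swap20_15, swap23_16, swap22_16, swap17_16, swap21_16, swap20_16, swap15_16, swap23_19, swap22_19, swap17_19, swap21_19, swap20_19, swap15_19, swap16_19, swap23_14, swap22_14, swap17_14, swap21_14, swap20_14, swap15_14, swap16_14, swap19_14, swap23_12, swap22_12, swap17_12, swap21_12, swap20_12, swap15_12, swap16_12, swap19_12, swap14_12, swap23_13, swap22_13, swap17_13, swap21_13, swap20_13, swap15_13, swap16_13, swap19_13, swap14_13, swap12_13, swap23_18, swap22_18, swap17_18, swap21_18, swap20_18, swap15_18, swap16_18, swap19_18, swap14_18, swap12_18, swap13_18, lift_swap (swap23_22 _ _), lift_swap (swap23_17 _ _), lift_swap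 (swap22_17 _ _), lift_swap (swap23_21 _ _), lift_swap (swap22_21 _ _), lift_swap (swap17_21 _ _), lift_swap (swap23_20 _ _), lift_swap (swap22_20 _ _), lift_swap (swap17_20 _ _), lift_swap (swap21_20 _ _), lift_swap (swap23_15 _ _), lift_swap (swap22_15 _ _), lift_swap (swap17_15 _ _), lift_swap (swap21_15 _ _), lift_swap (swap20_15 _ _), lift_swap (swap23_16 _ _), lift_swap (swap22_16 _ _), lift_swap (swap17_16 _ _), lift_swap (swap21_16 _ _), lift_swap (swap20_16 _ _), lift_swap (swap15_16 _ _), lift_swap (swap23_19 _ _), lift_swap (swap22_19 _ _), lift_swap (swap17_19 _ _), lift_swap (swap21_19 _ _), lift_swap (swap20_19 _ _), lift_swap (swap15_19 _ _), lift_swap (swap16_19 _ _), lift_swap (swap23_14 _ _), lift_swap (swap22_14 _ _), lift_swap (swap17_14 _ _), lift_swap (swap21_14 _ _), lift_swap (swap20_14 _ _), lift_swap (swap15_14 _ _), lift_swap (swap16_14 _ _), lift_swap (swap19_14 _ _), lift_swap (swap23_12 _ _), lift_swap (swap22_12 _ _), lift_swap (swap17_12 _ _), lift_swap (swap21_12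 _ _), lift_swap (swap20_12 _ _), lift_swap (swap15_12 _ _), lift_swap (swap16_12 _ _), lift_swap (swap19_12 _ _), lift_swap (swap14_12 _ _), lift_swap (swap23_13 _ _), lift_swap (swap22_13 _ _), lift_swap (swap17_13 _ _), lift_swap (swap21_13 _ _), lift_swap (swap20_13 _ _), lift_swap (swap15_13 _ _), lift_swap (swap16_13 _ _), lift_swap (swap19_13 _ _), lift_swap (swap14_13 _ _), lift_swap (swap12_13 _ _), lift_swap (swap23_18 _ _), lift_swap (swap22_18 _ _), lift_swap (swap17_18 _ _), lift_swap (swap21_18 _ _), lift_swap (swap20_18 _ _), lift_swap (swap15_18 _ _), lift_swap (swap16_18 _ _), lift_swap (swap19_18 _ _), lift_swap (swap14_18 _ _), lift_swap (swap12_18 _ _), lift_swap (swap13_18 _ _)]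
  simp only [map_add, neg_add]

/-- `2a + b` against `a`. -/
theorem d_a (v t : K) : xd H v * xa H t = xa H t * (xd H v * xe H (-H.T (v * φ t))) := by
  refine Subtype.ext ?_
  simp only [Subgroup.coe_mul, coe_xd, coe_xa, coe_xe, XA, XD]
  conv_lhs => simp only [mul_assoc, X_merge', X_merge, swap23_22, swap23_17, swap22_17, swap23_21, swap22_21, swap17_21, swap23_20, swap22_20, swap17_20, swap21_20, swap23_15, swap22_15, swap17_15, swap21_15, swap20_15, swap23_16, swap22_16, swap17_16, swap21_16, swap20_16, swap15_16, swap23_19, swap22_19, swap17_19, swap21_19, swap20_19, swap15_19, swap16_19, swap23_14, swap22_14, swap17_14, swap21_14, swap20_14, swap15_14, swap16_14, swap19_14, swap23_12, swap22_12, swap17_12, swap21_12, swap20_12, swap15_12, swap16_12, swap19_12, swap14_12, swap23_13, swap22_13, swap17_13, swap21_13, swap20_13, swap15_13, swap16_13, swap19_13, swap14_13, swap12_13, swap23_18, swap22_18, swap17_18, swap21_18, swap20_18, swap15_18, swap16_18, swap19_18, swap14_18, swap12_18,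 swap13_18, lift_swap (swap23_22 _ _), lift_swap (swap23_17 _ _), lift_swap (swap22_17 _ _), lift_swap (swap23_21 _ _), lift_swap (swap22_21 _ _), lift_swap (swap17_21 _ _), lift_swap (swap23_20 _ _), lift_swap (swap22_20 _ _), lift_swap (swap17_20 _ _), lift_swap (swap21_20 _ _), lift_swap (swap23_15 _ _), lift_swap (swap22_15 _ _), lift_swap (swap17_15 _ _), lift_swap (swap21_15 _ _), lift_swap (swap20_15 _ _), lift_swap (swap23_16 _ _), lift_swap (swap22_16 _ _), lift_swap (swap17_16 _ _), lift_swap (swap21_16 _ _), lift_swap (swap20_16 _ _), lift_swap (swap15_16 _ _), lift_swap (swap23_19 _ _), lift_swap (swap22_19 _ _), lift_swap (swap17_19 _ _), lift_swap (swap21_19 _ _), lift_swap (swap20_19 _ _), lift_swap (swap15_19 _ _), lift_swap (swap16_19 _ _), lift_swap (swap23_14 _ _), lift_swap (swap22_14 _ _), lift_swap (swap17_14 _ _), lift_swap (swap21_14 _ _), lift_swap (swap20_14 _ _), lift_swap (swap15_14 _ _), lift_swap (swap16_14 _ _), lift_swap (swap19_14 _ _), lift_swap (swap23_12 _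 _), lift_swap (swap22_12 _ _), lift_swap (swap17_12 _ _), lift_swap (swap21_12 _ _), lift_swap (swap20_12 _ _), lift_swap (swap15_12 _ _), lift_swap (swap16_12 _ _), lift_swap (swap19_12 _ _), lift_swap (swap14_12 _ _), lift_swap (swap23_13 _ _), lift_swap (swap22_13 _ _), lift_swap (swap17_13 _ _), lift_swap (swap21_13 _ _), lift_swap (swap20_13 _ _), lift_swap (swap15_13 _ _), lift_swap (swap16_13 _ _), lift_swap (swap19_13 _ _), lift_swap (swap14_13 _ _), lift_swap (swap12_13 _ _), lift_swap (swap23_18 _ _), lift_swap (swap22_18 _ _), lift_swap (swap17_18 _ _), lift_swap (swap21_18 _ _), lift_swap (swap20_18 _ _), lift_swap (swap15_18 _ _), lift_swap (swap16_18 _ _), lift_swap (swap19_18 _ _), lift_swap (swap14_18 _ _), lift_swap (swap12_18 _ _), lift_swap (swap13_18 _ _)]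
  simp only [mul_assoc, NegMemClass.coe_neg, H.coe_T, map_mul, H.phi3]
  refine congrArg₂ _ rfl (congrArg₂ _ rfl (congrArg₂ _ rfl (congrArg₂ _ rfl (congrArg₂ _ rfl
    (congrArg₂ _ rfl (congrArg _ ?_))))))
  ring

/-- `2a + b` against `a + b`. -/
theorem c_d (r v : K) : xc H r * xd H v = xd H v * (xc H r * xf H (H.T (φ r * v))) := by
  refine Subtype.ext ?_
  simp only [Subgroup.coe_mul, coe_xd, coe_xc, coe_xf, XC, XD]
  conv_rhs => simp only [mul_assoc, X_merge', X_merge, swap23_22, swap23_17, swap22_17, swap23_21, swap22_21, swap17_21, swap23_20, swap22_20, swap17_20, swap21_20, swap23_15, swap22_15, swap17_15, swap21_15, swap20_15, swap23_16, swap22_16, swap17_16, swap21_16, swap20_16, swap15_16, swap23_19, swap22_19, swap17_19, swap21_19, swap20_19, swap15_19, swap16_19, swap23_14, swap22_14, swap17_14, swap21_14, swap20_14, swap15_14, swap16_14, swap19_14, swap23_12, swap22_12, swap17_12, swap21_12, swap20_12, swap15_12, swap16_12, swap19_12, swap14_12, swap23_13, swap22_13, swap17_13,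 swap21_13, swap20_13, swap15_13, swap16_13, swap19_13, swap14_13, swap12_13, swap23_18, swap22_18, swap17_18, swap21_18, swap20_18, swap15_18, swap16_18, swap19_18, swap14_18, swap12_18, swap13_18, lift_swap (swap23_22 _ _), lift_swap (swap23_17 _ _), lift_swap (swap22_17 _ _), lift_swap (swap23_21 _ _), lift_swap (swap22_21 _ _), lift_swap (swap17_21 _ _), lift_swap (swap23_20 _ _), lift_swap (swap22_20 _ _), lift_swap (swap17_20 _ _), lift_swap (swap21_20 _ _), lift_swap (swap23_15 _ _), lift_swap (swap22_15 _ _), lift_swap (swap17_15 _ _), lift_swap (swap21_15 _ _), lift_swap (swap20_15 _ _), lift_swap (swap23_16 _ _), lift_swap (swap22_16 _ _), lift_swap (swap17_16 _ _), lift_swap (swap21_16 _ _), lift_swap (swap20_16 _ _), lift_swap (swap15_16 _ _), lift_swap (swap23_19 _ _), lift_swap (swap22_19 _ _), lift_swap (swap17_19 _ _), lift_swap (swap21_19 _ _), lift_swap (swap20_19 _ _), lift_swap (swap15_19 _ _), lift_swap (swap16_19 _ _), lift_swap (swap23_14 _ _), lift_swap (swap22_14 _ _),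 lift_swap (swap17_14 _ _), lift_swap (swap21_14 _ _), lift_swap (swap20_14 _ _), lift_swap (swap15_14 _ _), lift_swap (swap16_14 _ _), lift_swap (swap19_14 _ _), lift_swap (swap23_12 _ _), lift_swap (swap22_12 _ _), lift_swap (swap17_12 _ _), lift_swap (swap21_12 _ _), lift_swap (swap20_12 _ _), lift_swap (swap15_12 _ _), lift_swap (swap16_12 _ _), lift_swap (swap19_12 _ _), lift_swap (swap14_12 _ _), lift_swap (swap23_13 _ _), lift_swap (swap22_13 _ _), lift_swap (swap17_13 _ _), lift_swap (swap21_13 _ _), lift_swap (swap20_13 _ _), lift_swap (swap15_13 _ _), lift_swap (swap16_13 _ _), lift_swap (swap19_13 _ _), lift_swap (swap14_13 _ _), lift_swap (swap12_13 _ _), lift_swap (swap23_18 _ _), lift_swap (swap22_18 _ _), lift_swap (swap17_18 _ _), lift_swap (swap21_18 _ _), lift_swap (swap20_18 _ _), lift_swap (swap15_18 _ _), lift_swap (swap16_18 _ _), lift_swap (swap19_18 _ _), lift_swap (swap14_18 _ _), lift_swap (swap12_18 _ _), lift_swap (swap13_18 _ _)]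
  simp only [mul_assoc, H.coe_T, map_mul, H.phi3]
  conv_lhs => rw [show X 17 (-φ (φ v)) = X 17 (-φ (φ v)) * X 23 (0 : K) by rw [X_zero, mul_one]]
  refine congrArg₂ _ rfl (congrArg₂ _ rfl (congrArg₂ _ rfl (congrArg₂ _ rfl (congrArg₂ _ rfl
    (congrArg₂ _ rfl (congrArg _ ?_))))))
  ring

/-- `3a + b` against `b`. -/
theorem b_e (s u : fixF φ) : xb H s * xe H u = xe H u * (xb H s * xf H (s * u)) := by
  refine Subtype.ext ?_
  simp only [Subgroup.coe_mul, coe_xb, coe_xe, coe_xf]
  conv_rhs => simp only [mul_assoc, X_merge', X_merge, swap23_22, swap23_17, swap22_17, swap23_21, swap22_21, swap17_21, swap23_20, swap22_20, swap17_20, swap21_20, swap23_15, swap22_15, swap17_15, swap21_15, swap20_15, swap23_16, swap22_16, swap17_16, swap21_16, swap20_16, swap15_16, swap23_19, swap22_19, swap17_19, swap21_19, swap20_19, swap15_19, swap16_19, swap23_14, swap22_14, swap17_14, swap21_14, swap20_14, swap15_14, swap16_14, swap19_14, swap23_12, swap22_12, swap17_12, swap21_12, swap20_12, swap15_12, swap16_12,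 swap19_12, swap14_12, swap23_13, swap22_13, swap17_13, swap21_13, swap20_13, swap15_13, swap16_13, swap19_13, swap14_13, swap12_13, swap23_18, swap22_18, swap17_18, swap21_18, swap20_18, swap15_18, swap16_18, swap19_18, swap14_18, swap12_18, swap13_18, lift_swap (swap23_22 _ _), lift_swap (swap23_17 _ _), lift_swap (swap22_17 _ _), lift_swap (swap23_21 _ _), lift_swap (swap22_21 _ _), lift_swap (swap17_21 _ _), lift_swap (swap23_20 _ _), lift_swap (swap22_20 _ _), lift_swap (swap17_20 _ _), lift_swap (swap21_20 _ _), lift_swap (swap23_15 _ _), lift_swap (swap22_15 _ _), lift_swap (swap17_15 _ _), lift_swap (swap21_15 _ _), lift_swap (swap20_15 _ _), lift_swap (swap23_16 _ _), lift_swap (swap22_16 _ _), lift_swap (swap17_16 _ _), lift_swap (swap21_16 _ _), lift_swap (swap20_16 _ _), lift_swap (swap15_16 _ _), lift_swap (swap23_19 _ _), lift_swap (swap22_19 _ _), lift_swap (swap17_19 _ _), lift_swap (swap21_19 _ _), lift_swap (swap20_19 _ _), lift_swap (swap15_19 _ _), lift_swap (swap16_19 _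 _), lift_swap (swap23_14 _ _), lift_swap (swap22_14 _ _), lift_swap (swap17_14 _ _), lift_swap (swap21_14 _ _), lift_swap (swap20_14 _ _), lift_swap (swap15_14 _ _), lift_swap (swap16_14 _ _), lift_swap (swap19_14 _ _), lift_swap (swap23_12 _ _), lift_swap (swap22_12 _ _), lift_swap (swap17_12 _ _), lift_swap (swap21_12 _ _), lift_swap (swap20_12 _ _), lift_swap (swap15_12 _ _), lift_swap (swap16_12 _ _), lift_swap (swap19_12 _ _), lift_swap (swap14_12 _ _), lift_swap (swap23_13 _ _), lift_swap (swap22_13 _ _), lift_swap (swap17_13 _ _), lift_swap (swap21_13 _ _), lift_swap (swap20_13 _ _), lift_swap (swap15_13 _ _), lift_swap (swap16_13 _ _), lift_swap (swap19_13 _ _), lift_swap (swap14_13 _ _), lift_swap (swap12_13 _ _), lift_swap (swap23_18 _ _), lift_swap (swap22_18 _ _), lift_swap (swap17_18 _ _), lift_swap (swap21_18 _ _), lift_swap (swap20_18 _ _), lift_swap (swap15_18 _ _), lift_swap (swap16_18 _ _), lift_swap (swap19_18 _ _), lift_swap (swap14_18 _ _), lift_swap (swap12_18 _ _), lift_swap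 (swap13_18 _ _)]
  conv_lhs => rw [show X 22 (u : K) = X 22 (u : K) * X 23 (0 : K) by rw [X_zero, mul_one]]
  refine congrArg₂ _ rfl (congrArg₂ _ rfl (congrArg _ ?_))
  push_cast
  ring

theorem b_a (s : fixF φ) (t : K) : ∃ (r v : K) (f : fixF φ),
    xb H s * xa H t = xa H t * (xb H s * (xc H r * (xd H v *
      (xe H ⟨(s : K) * (t * φ t * φ (φ t)), by rw [mem_fixF]; simp only [map_mul, H.phi3, fixF_coe]; ring⟩ * xf H f)))) := by
  refine ⟨(s : K) * t, -((s : K) * (t * φ (φ t))),
    ⟨(s : K) ^ 2 * (t * φ t * φ (φ t)), by rw [mem_fixF]; simp only [map_mul, map_pow, H.phi3, fixF_coe]; ring⟩,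
    Subtype.ext ?_⟩
  simp only [Subgroup.coe_mul, coe_xb, coe_xa, coe_xc, coe_xd, coe_xe, coe_xf, XA, XC, XD]
  conv_lhs => simp only [mul_assoc, X_merge', X_merge, swap23_22, swap23_17, swap22_17, swap23_21, swap22_21, swap17_21, swap23_20, swap22_20, swap17_20, swap21_20, swap23_15, swap22_15, swap17_15, swap21_15, swap20_15, swap23_16, swap22_16, swap17_16, swap21_16, swap20_16, swap15_16, swap23_19, swap22_19, swap17_19, swap21_19, swap20_19, swap15_19, swap16_19, swap23_14, swap22_14, swap17_14, swap21_14, swap20_14, swap15_14, swap16_14, swap19_14, swap23_12, swap22_12, swap17_12, swap21_12, swap20_12, swap15_12, swap16_12, swap19_12, swap14_12, swap23_13, swap22_13, swap17_13, swap21_13, swap20_13, swap15_13, swap16_13, swap19_13, swap14_13, swap12_13, swap23_18, swap22_18, swap17_18, swap21_18, swap20_18, swap15_18, swap16_18, swap19_18, swap14_18, swap12_18, swap13_18, lift_swap (swap23_22 _ _), lift_swap (swap23_17 _ _), lift_swap (swap22_17 _ _), lift_swap (swap23_21 _ _), lift_swap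 (swap22_21 _ _), lift_swap (swap17_21 _ _), lift_swap (swap23_20 _ _), lift_swap (swap22_20 _ _), lift_swap (swap17_20 _ _), lift_swap (swap21_20 _ _), lift_swap (swap23_15 _ _), lift_swap (swap22_15 _ _), lift_swap (swap17_15 _ _), lift_swap (swap21_15 _ _), lift_swap (swap20_15 _ _), lift_swap (swap23_16 _ _), lift_swap (swap22_16 _ _), lift_swap (swap17_16 _ _), lift_swap (swap21_16 _ _), lift_swap (swap20_16 _ _), lift_swap (swap15_16 _ _), lift_swap (swap23_19 _ _), lift_swap (swap22_19 _ _), lift_swap (swap17_19 _ _), lift_swap (swap21_19 _ _), lift_swap (swap20_19 _ _), lift_swap (swap15_19 _ _), lift_swap (swap16_19 _ _), lift_swap (swap23_14 _ _), lift_swap (swap22_14 _ _), lift_swap (swap17_14 _ _), lift_swap (swap21_14 _ _), lift_swap (swap20_14 _ _), lift_swap (swap15_14 _ _), lift_swap (swap16_14 _ _), lift_swap (swap19_14 _ _), lift_swap (swap23_12 _ _), lift_swap (swap22_12 _ _), lift_swap (swap17_12 _ _), lift_swap (swap21_12 _ _), lift_swap (swap20_12 _ _), lift_swap (swap15_12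 _ _), lift_swap (swap16_12 _ _), lift_swap (swap19_12 _ _), lift_swap (swap14_12 _ _), lift_swap (swap23_13 _ _), lift_swap (swap22_13 _ _), lift_swap (swap17_13 _ _), lift_swap (swap21_13 _ _), lift_swap (swap20_13 _ _), lift_swap (swap15_13 _ _), lift_swap (swap16_13 _ _), lift_swap (swap19_13 _ _), lift_swap (swap14_13 _ _), lift_swap (swap12_13 _ _), lift_swap (swap23_18 _ _), lift_swap (swap22_18 _ _), lift_swap (swap17_18 _ _), lift_swap (swap21_18 _ _), lift_swap (swap20_18 _ _), lift_swap (swap15_18 _ _), lift_swap (swap16_18 _ _), lift_swap (swap19_18 _ _), lift_swap (swap14_18 _ _), lift_swap (swap12_18 _ _), lift_swap (swap13_18 _ _)]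
  simp only [mul_assoc, map_mul, map_neg, fixF_coe, H.phi3]
  refine congrArg₂ _ rfl (congrArg₂ _ rfl (congrArg₂ _ rfl (congrArg₂ _ rfl (congrArg₂ _ (congrArg _ ?_)
    (congrArg₂ _ (congrArg _ ?_) (congrArg₂ _ (congrArg _ ?_) (congrArg₂ _ (congrArg _ ?_) (congrArg₂ _ (congrArg _ ?_)
    (congrArg₂ _ (congrArg _ ?_) (congrArg₂ _ (congrArg _ ?_) (congrArg _ ?_))))))))))) <;> ring

/-- `3a + 2b` against `-b`. -/
theorem nb_f (s u : fixF φ) : xnb H s * xf H u = xf H u * (xnb H s * xe H (s * u)) := by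
  refine Subtype.ext ?_
  simp only [Subgroup.coe_mul, coe_xnb, coe_xe, coe_xf]
  have h := swap_cons (K := K) (r := 9) (s := 23) (τ := 22) (M := 1) (by decide +kernel) (u : K) (s : K)
  have h22 : X 22 ((s : K) * u) * X 23 (u : K) = X 23 (u : K) * X 22 ((s : K) * u) := (swap23_22 _ _).symm
  have h9 : X 22 ((s : K) * u) * X 9 (s : K) = X 9 (s : K) * X 22 ((s : K) * u) := swap_nil (by decide +kernel) _ _
  push_cast
  rw [← mul_assoc (X 23 (u : K)), h]
  simp only [mul_assoc, X_merge, Int.cast_one]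
  rw [show -1 * ((s : K) * u) + (s : K) * u = 0 by ring, X_zero, mul_one]

theorem comm_of {r s : ℕ} (h : r < 24 ∧ s < 24 ∧ s ≠ ng chevD4 r ∧ cTerms D4.cert r s = []) (x y : K) :
    Commute (X s x) (X r y) := swap_nil h x y

theorem e_f (s u : fixF φ) : Commute (xe H s) (xf H u) :=
  Subtype.ext (comm_of H (r := 22) (s := 23) (by decide +kernel) (u : K) (s : K)).symm.eq

theorem b_f (s u : fixF φ) : Commute (xb H s) (xf H u) :=
  Subtype.ext (comm_of H (r := 14) (s := 23) (by decide +kernel) (u : K) (s : K)).symm.eq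

theorem nb_e (s u : fixF φ) : Commute (xnb H s) (xe H u) :=
  Subtype.ext (comm_of H (r := 9) (s := 22) (by decide +kernel) (u : K) (s : K)).symm.eq

theorem b_d (s : fixF φ) (v : K) : Commute (xb H s) (xd H v) :=
  Subtype.ext ((comm_of H (r := 14) (s := 20) (by decide +kernel) _ _).symm.mul_right
    ((comm_of H (r := 14) (s := 21) (by decide +kernel) _ _).symm.mul_right
      (comm_of H (r := 14) (s := 17) (by decide +kernel) _ _).symm)).eq

theorem nb_d (s : fixF φ) (v : K) : Commute (xnb H s) (xd H v) :=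
  Subtype.ext ((comm_of H (r := 9) (s := 20) (by decide +kernel) _ _).symm.mul_right
    ((comm_of H (r := 9) (s := 21) (by decide +kernel) _ _).symm.mul_right
      (comm_of H (r := 9) (s := 17) (by decide +kernel) _ _).symm)).eq

theorem d_e (v : K) (s : fixF φ) : Commute (xd H v) (xe H s) :=
  Subtype.ext ((comm_of H (r := 20) (s := 22) (by decide +kernel) _ _).mul_right
    ((comm_of H (r := 21) (s := 22) (by decide +kernel) _ _).mul_right
      (comm_of H (r := 17) (s := 22) (by decide +kernel) _ _))).symm.eq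

theorem d_f (v : K) (s : fixF φ) : Commute (xd H v) (xf H s) :=
  Subtype.ext ((comm_of H (r := 20) (s := 23) (by decide +kernel) _ _).mul_right
    ((comm_of H (r := 21) (s := 23) (by decide +kernel) _ _).mul_right
      (comm_of H (r := 17) (s := 23) (by decide +kernel) _ _))).symm.eq

theorem c_e (r : K) (s : fixF φ) : Commute (xc H r) (xe H s) :=
  Subtype.ext ((comm_of H (r := 19) (s := 22) (by decide +kernel) _ _).mul_right
    ((comm_of H (r := 16) (s := 22) (by decide +kernel) _ _).mul_right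
      (comm_of H (r := 15) (s := 22) (by decide +kernel) _ _))).symm.eq

theorem c_f (r : K) (s : fixF φ) : Commute (xc H r) (xf H s) :=
  Subtype.ext ((comm_of H (r := 19) (s := 23) (by decide +kernel) _ _).mul_right
    ((comm_of H (r := 16) (s := 23) (by decide +kernel) _ _).mul_right
      (comm_of H (r := 15) (s := 23) (by decide +kernel) _ _))).symm.eq

theorem a_e (t : K) (s : fixF φ) : Commute (xa H t) (xe H s) :=
  Subtype.ext ((comm_of H (r := 18) (s := 22) (by decide +kernel) _ _).mul_right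
    ((comm_of H (r := 13) (s := 22) (by decide +kernel) _ _).mul_right
      (comm_of H (r := 12) (s := 22) (by decide +kernel) _ _))).symm.eq

theorem a_f (t : K) (s : fixF φ) : Commute (xa H t) (xf H s) :=
  Subtype.ext ((comm_of H (r := 18) (s := 23) (by decide +kernel) _ _).mul_right
    ((comm_of H (r := 13) (s := 23) (by decide +kernel) _ _).mul_right
      (comm_of H (r := 12) (s := 23) (by decide +kernel) _ _))).symm.eq

/-- The Weyl element of `a`. -/
noncomputable def wa : ↥(twistedD4 K q) :=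
  ⟨nProd rootedD4.toChecked K (d4Orb 1), by
    let O := d4Orbits H.hq H.hK φ H.hφ H.phi3
    have hL : IsWord chevD4 (d4Orb 1) := O.isWordOrb 1
    rw [← orbN_one rootedD4.toChecked hL]
    exact O.orbN_mem 1 _ fun i _ => (map_one φ).symm⟩

/-- The Weyl element of `b`. -/
noncomputable def wb : ↥(twistedD4 K q) :=
  ⟨nProd rootedD4.toChecked K (d4Orb 0), by
    let O := d4Orbits H.hq H.hK φ H.hφ H.phi3
    have hL : IsWord chevD4 (d4Orb 0) := O.isWordOrb 0
    rw [← orbN_one rootedD4.toChecked hL]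
    exact O.orbN_mem 0 _ fun i _ => (map_one φ).symm⟩

theorem wX (j : Fin 2) {r r' : ℕ} {ε : ℤ}
    (h : r < 24 ∧ perm D4.cert (d4Orb j) r = r' ∧ weta D4.cert (d4Orb j) r = ε) (t : K) :
    nProd rootedD4.toChecked K (d4Orb j) * X r t = X r' ((ε : K) * t) * nProd rootedD4.toChecked K (d4Orb j) := by
  obtain ⟨hr, rfl, rfl⟩ := h
  have hL : IsWord chevD4 (d4Orb j) := (d4Orbits H.hq H.hK φ H.hφ H.phi3).isWordOrb j
  refine Units.ext ?_
  rw [Units.val_mul, Units.val_mul, X, X, coe_xg, coe_xg, rootedD4.toChecked.nProd_mul_x hL hr]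

theorem wa_b (s : fixF φ) : wa H * xb H s = xe H (-s) * wa H := by
  refine Subtype.ext ?_
  show nProd rootedD4.toChecked K (d4Orb 1) * X 14 (s : K) = X 22 _ * nProd rootedD4.toChecked K (d4Orb 1)
  rw [wX H 1 (r := 14) (r' := 22) (ε := -1) (by decide +kernel)]
  push_cast
  rw [neg_one_mul]

theorem wa_e (s : fixF φ) : wa H * xe H s = xb H s * wa H := by
  refine Subtype.ext ?_
  show nProd rootedD4.toChecked K (d4Orb 1) * X 22 (s : K) = X 14 _ * nProd rootedD4.toChecked K (d4Orb 1)
  rw [wX H 1 (r := 22) (r' := 14) (ε := 1) (by decide +kernel)]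
  push_cast
  rw [one_mul]

theorem wa_f (s : fixF φ) : wa H * xf H s = xf H s * wa H := by
  refine Subtype.ext ?_
  show nProd rootedD4.toChecked K (d4Orb 1) * X 23 (s : K) = X 23 _ * nProd rootedD4.toChecked K (d4Orb 1)
  rw [wX H 1 (r := 23) (r' := 23) (ε := 1) (by decide +kernel)]
  push_cast
  rw [one_mul]

theorem wa_na (t : K) : wa H * xna H t = xa H (-t) * wa H := by
  refine Subtype.ext ?_
  show nProd rootedD4.toChecked K (d4Orb 1) * (X 5 t * (X 10 (φ t) * X 11 (φ (φ t)))) = XA φ (-t) * nProd rootedD4.toChecked K (d4Orb 1)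
  rw [← mul_assoc, wX H 1 (r := 5) (r' := 18) (ε := -1) (by decide +kernel), mul_assoc, ← mul_assoc _ (X 10 _),
    wX H 1 (r := 10) (r' := 13) (ε := -1) (by decide +kernel), mul_assoc,
    wX H 1 (r := 11) (r' := 12) (ε := -1) (by decide +kernel)]
  simp only [XA, map_neg, Int.cast_neg, Int.cast_one, neg_one_mul, mul_assoc]

theorem wb_e (s : fixF φ) : wb H * xe H s = xf H s * wb H := by
  refine Subtype.ext ?_
  show nProd rootedD4.toChecked K (d4Orb 0) * X 22 (s : K) = X 23 _ * nProd rootedD4.toChecked K (d4Orb 0)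
  rw [wX H 0 (r := 22) (r' := 23) (ε := 1) (by decide +kernel)]
  push_cast
  rw [one_mul]

theorem wb_f (s : fixF φ) : wb H * xf H s = xe H (-s) * wb H := by
  refine Subtype.ext ?_
  show nProd rootedD4.toChecked K (d4Orb 0) * X 23 (s : K) = X 22 _ * nProd rootedD4.toChecked K (d4Orb 0)
  rw [wX H 0 (r := 23) (r' := 22) (ε := -1) (by decide +kernel)]
  push_cast
  rw [neg_one_mul]

theorem wb_nb (s : fixF φ) : wb H * xnb H s = xb H (-s) * wb H := by
  refine Subtype.ext ?_
  show nProd rootedD4.toChecked K (d4Orb 0) * X 9 (s : K) = X 14 _ * nProd rootedD4.toChecked K (d4Orb 0)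
  rw [wX H 0 (r := 9) (r' := 14) (ε := -1) (by decide +kernel)]
  push_cast
  rw [neg_one_mul]

theorem wb_a (t : K) : wb H * xa H t = xc H t * wb H := by
  refine Subtype.ext ?_
  show nProd rootedD4.toChecked K (d4Orb 0) * (X 18 t * (X 13 (φ t) * X 12 (φ (φ t)))) = XC φ t * nProd rootedD4.toChecked K (d4Orb 0)
  rw [← mul_assoc, wX H 0 (r := 18) (r' := 19) (ε := 1) (by decide +kernel), mul_assoc, ← mul_assoc _ (X 13 _),
    wX H 0 (r := 13) (r' := 16) (ε := -1) (by decide +kernel), mul_assoc,
    wX H 0 (r := 12) (r' := 15) (ε := -1) (by decide +kernel)]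
  simp only [XC, Int.cast_neg, Int.cast_one, neg_one_mul, one_mul, mul_assoc]

omit H in
variable (φ) in
/-- The parameter of the torus element with node values `(t, 1, φ t, φ² t)`. -/
def hPar (t : Kˣ) : ℕ → Kˣ := fun i =>
  if i = 0 then t else if i = 2 then Units.map φ.toRingHom.toMonoidHom t
  else if i = 3 then Units.map φ.toRingHom.toMonoidHom (Units.map φ.toRingHom.toMonoidHom t) else 1

/-- The torus element. -/
noncomputable def ht (t : Kˣ) : ↥(twistedD4 K q) :=
  ⟨torusHom chevD4 K (hPar φ t), by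
    refine (d4Orbits H.hq H.hK φ H.hφ H.phi3).torus_mem fun i hi => ?_
    rw [d4rank] at hi
    interval_cases i <;> simp [hPar, GraphData.node, d4Graph, H.phi3]⟩

theorem ht_X {r : ℕ} (hr : r < 24) (t : Kˣ) (u : K) :
    (ht H t : GL chevD4.Idx K) * X r u = X r ((torusFun chevD4 (hPar φ t) r : K) * u) * (ht H t : GL chevD4.Idx K) := by
  rw [← mul_inv_eq_iff_eq_mul, X, X, xg_eq rootedD4 (show r < chevD4.nroots from hr),
    xg_eq rootedD4 (show r < chevD4.nroots from hr)]
  exact rootedD4.toChecked.conj_x hr u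

theorem tf (r : ℕ) (e₀ e₂ e₃ : ℤ)
    (h : chevD4.cartan 0 r = e₀ ∧ chevD4.cartan 2 r = e₂ ∧ chevD4.cartan 3 r = e₃) (t : Kˣ) :
    (torusFun chevD4 (hPar φ t) r : K) = (t : K) ^ e₀ * (φ (t : K)) ^ e₂ * (φ (φ (t : K))) ^ e₃ := by
  obtain ⟨h0, h2, h3⟩ := h
  rw [torusFun, d4rank]
  simp [Finset.prod_range_succ, hPar, h0, h2, h3]

end Cfsg.Agent.Lib.D4Deg41
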