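import Cfsg.Agent.Lib.ChevOver.Basic
import Cfsg.Agent.Lib.Twisted.Core.D4Group

/-!
Root elements of `D₄` and the rules that bring products of positive ones to a normal order.
-/

set_option autoImplicit false

namespace Cfsg.Agent.Lib.D4Deg41

open Cfsg.Lie Cfsg.Agent.Lib.Chev Cfsg.Agent.Lib.ChevOver Cfsg.Agent.Lib.Twisted.Core

variable {K : Type*} [Field K]

/-- A root element of `D₄`. -/
noncomputable def X (r : ℕ) (t : K) : GL chevD4.Idx K := xg rootedD4 r t

theorem X_zero (r : ℕ) : X r (0 : K) = 1 := xg_zero _ _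

theorem X_merge (r : ℕ) (a b : K) : X r a * X r b = X r (a + b) := xg_add _ r a b

theorem X_merge' (r : ℕ) (a b : K) (w : GL chevD4.Idx K) : X r a * (X r b * w) = X r (a + b) * w := by
  rw [← mul_assoc, X_merge]

theorem lift_swap {x y z : GL chevD4.Idx K} (h : x * y = z) (w : GL chevD4.Idx K) : x * (y * w) = z * w := by
  rw [← mul_assoc, h]

theorem swap_nil {r s : ℕ} (h : r < 24 ∧ s < 24 ∧ s ≠ ng chevD4 r ∧ cTerms D4.cert r s = []) (a b : K) :
    X s a * X r b = X r b * X s a :=
  ((xg_commute rootedD4 h.1 h.2.1 h.2.2.1 h.2.2.2 b a).eq).symm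

theorem swap_cons {r s τ : ℕ} {M : ℤ}
    (h : r < 24 ∧ s < 24 ∧ s ≠ r ∧ s ≠ ng chevD4 r ∧ cTerms D4.cert r s = [(τ, M, 1, 1)]) (a b : K) :
    X s a * X r b = X r b * (X s a * X τ (-(M : K) * b * a)) := by
  have e := xg_comm_one (k := K) rootedD4 h.1 h.2.1 h.2.2.1 h.2.2.2.1 h.2.2.2.2 b a
  unfold X
  rw [e, mul_assoc]
  simp [mul_assoc]

theorem swap23_22 (a b : K) : X 23 a * X 22 b = X 22 b * X 23 a :=
  swap_nil (by decide +kernel) a b

theorem swap23_17 (a b : K) : X 23 a * X 17 b = X 17 b * X 23 a :=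
  swap_nil (by decide +kernel) a b

theorem swap22_17 (a b : K) : X 22 a * X 17 b = X 17 b * X 22 a :=
  swap_nil (by decide +kernel) a b

theorem swap23_21 (a b : K) : X 23 a * X 21 b = X 21 b * X 23 a :=
  swap_nil (by decide +kernel) a b

theorem swap22_21 (a b : K) : X 22 a * X 21 b = X 21 b * X 22 a :=
  swap_nil (by decide +kernel) a b

theorem swap17_21 (a b : K) : X 17 a * X 21 b = X 21 b * X 17 a :=
  swap_nil (by decide +kernel) a b

theorem swap23_20 (a b : K) : X 23 a * X 20 b = X 20 b * X 23 a :=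
  swap_nil (by decide +kernel) a b

theorem swap22_20 (a b : K) : X 22 a * X 20 b = X 20 b * X 22 a :=
  swap_nil (by decide +kernel) a b

theorem swap17_20 (a b : K) : X 17 a * X 20 b = X 20 b * X 17 a :=
  swap_nil (by decide +kernel) a b

theorem swap21_20 (a b : K) : X 21 a * X 20 b = X 20 b * X 21 a :=
  swap_nil (by decide +kernel) a b

theorem swap23_15 (a b : K) : X 23 a * X 15 b = X 15 b * X 23 a :=
  swap_nil (by decide +kernel) a b

theorem swap22_15 (a b : K) : X 22 a * X 15 b = X 15 b * X 22 a :=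
  swap_nil (by decide +kernel) a b

theorem swap17_15 (a b : K) : X 17 a * X 15 b = X 15 b * X 17 a :=
  swap_nil (by decide +kernel) a b

theorem swap21_15 (a b : K) : X 21 a * X 15 b = X 15 b * (X 21 a * X 23 (a * b)) := by
  rw [swap_cons (r := 15) (s := 21) (τ := 23) (M := -1) (by decide +kernel)]
  simp [mul_comm b a]

theorem swap20_15 (a b : K) : X 20 a * X 15 b = X 15 b * X 20 a :=
  swap_nil (by decide +kernel) a b

theorem swap23_16 (a b : K) : X 23 a * X 16 b = X 16 b * X 23 a :=
  swap_nil (by decide +kernel) a b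

theorem swap22_16 (a b : K) : X 22 a * X 16 b = X 16 b * X 22 a :=
  swap_nil (by decide +kernel) a b

theorem swap17_16 (a b : K) : X 17 a * X 16 b = X 16 b * X 17 a :=
  swap_nil (by decide +kernel) a b

theorem swap21_16 (a b : K) : X 21 a * X 16 b = X 16 b * X 21 a :=
  swap_nil (by decide +kernel) a b

theorem swap20_16 (a b : K) : X 20 a * X 16 b = X 16 b * (X 20 a * X 23 (a * b)) := by
  rw [swap_cons (r := 16) (s := 20) (τ := 23) (M := -1) (by decide +kernel)]
  simp [mul_comm b a]

theorem swap15_16 (a b : K) : X 15 a * X 16 b = X 16 b * X 15 a :=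
  swap_nil (by decide +kernel) a b

theorem swap23_19 (a b : K) : X 23 a * X 19 b = X 19 b * X 23 a :=
  swap_nil (by decide +kernel) a b

theorem swap22_19 (a b : K) : X 22 a * X 19 b = X 19 b * X 22 a :=
  swap_nil (by decide +kernel) a b

theorem swap17_19 (a b : K) : X 17 a * X 19 b = X 19 b * (X 17 a * X 23 (a * b)) := by
  rw [swap_cons (r := 19) (s := 17) (τ := 23) (M := -1) (by decide +kernel)]
  simp [mul_comm b a]

theorem swap21_19 (a b : K) : X 21 a * X 19 b = X 19 b * X 21 a :=
  swap_nil (by decide +kernel) a b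

theorem swap20_19 (a b : K) : X 20 a * X 19 b = X 19 b * X 20 a :=
  swap_nil (by decide +kernel) a b

theorem swap15_19 (a b : K) : X 15 a * X 19 b = X 19 b * X 15 a :=
  swap_nil (by decide +kernel) a b

theorem swap16_19 (a b : K) : X 16 a * X 19 b = X 19 b * X 16 a :=
  swap_nil (by decide +kernel) a b

theorem swap23_14 (a b : K) : X 23 a * X 14 b = X 14 b * X 23 a :=
  swap_nil (by decide +kernel) a b

theorem swap22_14 (a b : K) : X 22 a * X 14 b = X 14 b * (X 22 a * X 23 (-(a * b))) := by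
  rw [swap_cons (r := 14) (s := 22) (τ := 23) (M := 1) (by decide +kernel)]
  simp [mul_comm b a]

theorem swap17_14 (a b : K) : X 17 a * X 14 b = X 14 b * X 17 a :=
  swap_nil (by decide +kernel) a b

theorem swap21_14 (a b : K) : X 21 a * X 14 b = X 14 b * X 21 a :=
  swap_nil (by decide +kernel) a b

theorem swap20_14 (a b : K) : X 20 a * X 14 b = X 14 b * X 20 a :=
  swap_nil (by decide +kernel) a b

theorem swap15_14 (a b : K) : X 15 a * X 14 b = X 14 b * X 15 a :=
  swap_nil (by decide +kernel) a b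

theorem swap16_14 (a b : K) : X 16 a * X 14 b = X 14 b * X 16 a :=
  swap_nil (by decide +kernel) a b

theorem swap19_14 (a b : K) : X 19 a * X 14 b = X 14 b * X 19 a :=
  swap_nil (by decide +kernel) a b

theorem swap23_12 (a b : K) : X 23 a * X 12 b = X 12 b * X 23 a :=
  swap_nil (by decide +kernel) a b

theorem swap22_12 (a b : K) : X 22 a * X 12 b = X 12 b * X 22 a :=
  swap_nil (by decide +kernel) a b

theorem swap17_12 (a b : K) : X 17 a * X 12 b = X 12 b * X 17 a :=
  swap_nil (by decide +kernel) a b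

theorem swap21_12 (a b : K) : X 21 a * X 12 b = X 12 b * (X 21 a * X 22 (-(a * b))) := by
  rw [swap_cons (r := 12) (s := 21) (τ := 22) (M := 1) (by decide +kernel)]
  simp [mul_comm b a]

theorem swap20_12 (a b : K) : X 20 a * X 12 b = X 12 b * X 20 a :=
  swap_nil (by decide +kernel) a b

theorem swap15_12 (a b : K) : X 15 a * X 12 b = X 12 b * X 15 a :=
  swap_nil (by decide +kernel) a b

theorem swap16_12 (a b : K) : X 16 a * X 12 b = X 12 b * (X 16 a * X 17 (-(a * b))) := by
  rw [swap_cons (r := 12) (s := 16) (τ := 17) (M := 1) (by decide +kernel)]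
  simp [mul_comm b a]

theorem swap19_12 (a b : K) : X 19 a * X 12 b = X 12 b * (X 19 a * X 20 (-(a * b))) := by
  rw [swap_cons (r := 12) (s := 19) (τ := 20) (M := 1) (by decide +kernel)]
  simp [mul_comm b a]

theorem swap14_12 (a b : K) : X 14 a * X 12 b = X 12 b * (X 14 a * X 15 (-(a * b))) := by
  rw [swap_cons (r := 12) (s := 14) (τ := 15) (M := 1) (by decide +kernel)]
  simp [mul_comm b a]

theorem swap23_13 (a b : K) : X 23 a * X 13 b = X 13 b * X 23 a :=
  swap_nil (by decide +kernel) a b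

theorem swap22_13 (a b : K) : X 22 a * X 13 b = X 13 b * X 22 a :=
  swap_nil (by decide +kernel) a b

theorem swap17_13 (a b : K) : X 17 a * X 13 b = X 13 b * X 17 a :=
  swap_nil (by decide +kernel) a b

theorem swap21_13 (a b : K) : X 21 a * X 13 b = X 13 b * X 21 a :=
  swap_nil (by decide +kernel) a b

theorem swap20_13 (a b : K) : X 20 a * X 13 b = X 13 b * (X 20 a * X 22 (-(a * b))) := by
  rw [swap_cons (r := 13) (s := 20) (τ := 22) (M := 1) (by decide +kernel)]
  simp [mul_comm b a]

theorem swap15_13 (a b : K) : X 15 a * X 13 b = X 13 b * (X 15 a * X 17 (-(a * b))) := by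
  rw [swap_cons (r := 13) (s := 15) (τ := 17) (M := 1) (by decide +kernel)]
  simp [mul_comm b a]

theorem swap16_13 (a b : K) : X 16 a * X 13 b = X 13 b * X 16 a :=
  swap_nil (by decide +kernel) a b

theorem swap19_13 (a b : K) : X 19 a * X 13 b = X 13 b * (X 19 a * X 21 (-(a * b))) := by
  rw [swap_cons (r := 13) (s := 19) (τ := 21) (M := 1) (by decide +kernel)]
  simp [mul_comm b a]

theorem swap14_13 (a b : K) : X 14 a * X 13 b = X 13 b * (X 14 a * X 16 (-(a * b))) := by
  rw [swap_cons (r := 13) (s := 14) (τ := 16) (M := 1) (by decide +kernel)]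
  simp [mul_comm b a]

theorem swap12_13 (a b : K) : X 12 a * X 13 b = X 13 b * X 12 a :=
  swap_nil (by decide +kernel) a b

theorem swap23_18 (a b : K) : X 23 a * X 18 b = X 18 b * X 23 a :=
  swap_nil (by decide +kernel) a b

theorem swap22_18 (a b : K) : X 22 a * X 18 b = X 18 b * X 22 a :=
  swap_nil (by decide +kernel) a b

theorem swap17_18 (a b : K) : X 17 a * X 18 b = X 18 b * (X 17 a * X 22 (a * b)) := by
  rw [swap_cons (r := 18) (s := 17) (τ := 22) (M := -1) (by decide +kernel)]
  simp [mul_comm b a]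

theorem swap21_18 (a b : K) : X 21 a * X 18 b = X 18 b * X 21 a :=
  swap_nil (by decide +kernel) a b

theorem swap20_18 (a b : K) : X 20 a * X 18 b = X 18 b * X 20 a :=
  swap_nil (by decide +kernel) a b

theorem swap15_18 (a b : K) : X 15 a * X 18 b = X 18 b * (X 15 a * X 20 (a * b)) := by
  rw [swap_cons (r := 18) (s := 15) (τ := 20) (M := -1) (by decide +kernel)]
  simp [mul_comm b a]

theorem swap16_18 (a b : K) : X 16 a * X 18 b = X 18 b * (X 16 a * X 21 (a * b)) := by
  rw [swap_cons (r := 18) (s := 16) (τ := 21) (M := -1) (by decide +kernel)]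
  simp [mul_comm b a]

theorem swap19_18 (a b : K) : X 19 a * X 18 b = X 18 b * X 19 a :=
  swap_nil (by decide +kernel) a b

theorem swap14_18 (a b : K) : X 14 a * X 18 b = X 18 b * (X 14 a * X 19 (a * b)) := by
  rw [swap_cons (r := 18) (s := 14) (τ := 19) (M := -1) (by decide +kernel)]
  simp [mul_comm b a]

theorem swap12_18 (a b : K) : X 12 a * X 18 b = X 18 b * X 12 a :=
  swap_nil (by decide +kernel) a b

theorem swap13_18 (a b : K) : X 13 a * X 18 b = X 18 b * X 13 a :=
  swap_nil (by decide +kernel) a b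

end Cfsg.Agent.Lib.D4Deg41
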