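import Cfsg.Agent.Lib.D4Deg41.Relations

/-!
The action of the torus elements on the root elements.
-/

set_option autoImplicit false

namespace Cfsg.Agent.Lib.D4Deg41

open Cfsg.Lie Cfsg.Agent.Lib.Chev

variable {K : Type*} [Field K] [Fintype K] {q : ℕ} {φ : K ≃+* K} (H : Hyp K q φ)
include H

/-- The norm of a unit as a unit of the fixed field. -/
noncomputable def Hyp.nrm (t : Kˣ) : (fixF φ)ˣ :=
  Units.mk0 ⟨(t : K) * φ t * φ (φ t), by rw [mem_fixF, map_mul, map_mul, H.phi3]; ring⟩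
    (fun e => mul_ne_zero (mul_ne_zero t.ne_zero (by simp)) (by simp) (congrArg Subtype.val e))

theorem Hyp.coe_nrm (t : Kˣ) : ((H.nrm t : fixF φ) : K) = (t : K) * φ t * φ (φ t) := rfl

theorem Hyp.kd_ne (t : Kˣ) : kd φ t ≠ 0 := by simp [kd]

theorem Hyp.kc_ne (t : Kˣ) : kc φ t ≠ 0 := by simp [kc]

theorem Hyp.phi_kd (t : Kˣ) : φ (kd φ t) = φ t * t / φ (φ t) ∧ φ (φ (kd φ t)) = φ (φ t) * φ t / t := by
  simp [kd, H.phi3]

theorem Hyp.phi_kc (t : Kˣ) : φ (kc φ t) = φ t / (φ (φ t) * t) ∧ φ (φ (kc φ t)) = φ (φ t) / (t * φ t) := by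
  simp [kc, H.phi3]

theorem ht_b (t : Kˣ) (s : fixF φ) : ht H t * xb H s = xb H (↑(H.nrm t)⁻¹ * s) * ht H t := by
  refine Subtype.ext ?_
  show _ * X 14 (s : K) = X 14 _ * _
  rw [ht_X H (by norm_num), tf H 14 (-1) (-1) (-1) (by decide +kernel)]
  congr 2
  push_cast [Units.val_inv_eq_inv_val]
  rw [H.coe_nrm]
  simp [mul_comm, mul_assoc, mul_left_comm]

theorem ht_e (t : Kˣ) (s : fixF φ) : ht H t * xe H s = xe H (↑(H.nrm t) * s) * ht H t := by
  refine Subtype.ext ?_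
  show _ * X 22 (s : K) = X 22 _ * _
  rw [ht_X H (by norm_num), tf H 22 1 1 1 (by decide +kernel)]
  simp [H.coe_nrm]

theorem ht_f (t : Kˣ) (s : fixF φ) : ht H t * xf H s = xf H s * ht H t := by
  refine Subtype.ext ?_
  show _ * X 23 (s : K) = X 23 _ * _
  rw [ht_X H (by norm_num), tf H 23 0 0 0 (by decide +kernel)]
  simp

theorem ht_triple {r₁ r₂ r₃ : ℕ} (h : r₁ < 24 ∧ r₂ < 24 ∧ r₃ < 24) (t : Kˣ) (a b c a' b' c' : K)
    (ha : (torusFun chevD4 (hPar φ t) r₁ : K) * a = a') (hb : (torusFun chevD4 (hPar φ t) r₂ : K) * b = b')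
    (hc : (torusFun chevD4 (hPar φ t) r₃ : K) * c = c') :
    (ht H t : GL chevD4.Idx K) * (X r₁ a * (X r₂ b * X r₃ c)) = X r₁ a' * (X r₂ b' * X r₃ c') * ht H t := by
  rw [← mul_assoc, ht_X H h.1, mul_assoc, ← mul_assoc _ (X r₂ b), ht_X H h.2.1, mul_assoc, ht_X H h.2.2,
    ha, hb, hc]
  simp only [mul_assoc]

theorem ht_c (t : Kˣ) (r : K) : ht H t * xc H r = xc H (kc φ t * r) * ht H t := by
  refine Subtype.ext ?_
  obtain ⟨e1, e2⟩ := H.phi_kc t
  show _ * XC φ r = XC φ _ * _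
  rw [XC, XC, map_mul, map_mul, e2, e1]
  refine ht_triple H ⟨by norm_num, by norm_num, by norm_num⟩ t _ _ _ _ _ _ ?_ ?_ ?_
  · rw [tf H 19 1 (-1) (-1) (by decide +kernel)]; simp only [kc, kd, zpow_one, zpow_neg, div_eq_mul_inv, mul_inv]; ring
  · rw [tf H 16 (-1) 1 (-1) (by decide +kernel)]; simp only [kc, kd, zpow_one, zpow_neg, div_eq_mul_inv, mul_inv]; ring
  · rw [tf H 15 (-1) (-1) 1 (by decide +kernel)]; simp only [kc, kd, zpow_one, zpow_neg, div_eq_mul_inv, mul_inv]; ring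

theorem ht_d (t : Kˣ) (v : K) : ht H t * xd H v = xd H (kd φ t * v) * ht H t := by
  refine Subtype.ext ?_
  obtain ⟨e1, e2⟩ := H.phi_kd t
  show _ * XD φ v = XD φ _ * _
  rw [XD, XD, map_mul, map_mul, e2, e1]
  refine ht_triple H ⟨by norm_num, by norm_num, by norm_num⟩ t _ _ _ _ _ _ ?_ ?_ ?_
  · rw [tf H 20 1 (-1) 1 (by decide +kernel)]; simp only [kc, kd, zpow_one, zpow_neg, div_eq_mul_inv, mul_inv]; ring
  · rw [tf H 21 1 1 (-1) (by decide +kernel)]; simp only [kc, kd, zpow_one, zpow_neg, div_eq_mul_inv, mul_inv]; ring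
  · rw [tf H 17 (-1) 1 1 (by decide +kernel)]; simp only [kc, kd, zpow_one, zpow_neg, div_eq_mul_inv, mul_inv]; ring

end Cfsg.Agent.Lib.D4Deg41
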